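import Mathlib
import Cfsg.Agent.H10.HO.Defs

/-!
# HO-NCXB (piece of S2075, `Out(He)`; helper10's project)

`C(x) = ⟨x⟩` for `x` of order 17: `N(⟨x⟩)/C(x)` embeds in `Aut(⟨x⟩)` (cyclic of order 16) and
contains the class of `z` of order 8; Sylow's theorem gives `|C(x)| / 17 · |N : C| ≡ 8 (mod 17)`;
index 8 forces `|C(x)| = 17`, and index 16 is excluded by a cyclic Sylow 2-subgroup of `N`
through `z`.
-/

set_option autoImplicit false

namespace Cfsg.Agent.H12.Ho

universe u

theorem ncxb_div8 : ∀ c ∈ Nat.divisors 225, (c * 8) % 17 = 8 → c = 1 := by decide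

theorem ncxb_pow2 : ∀ a < 8, 0 < a → 2 ^ a % 17 ≠ 1 := by decide

/-- HO-NCXB. -/
theorem ncxb : Cfsg.Agent.H10.HO.StNCXB.{u} := by
  intro G _ _ x z m hG hm hx17 hx1 hzx hz8 hCz hodd hdvd g hg
  classical
  haveI : Fact (Nat.Prime 17) := ⟨by norm_num⟩
  haveI : Fact (Nat.Prime 2) := ⟨Nat.prime_two⟩
  have hord : orderOf x = 17 := orderOf_eq_prime hx17 hx1
  have hHcard : Nat.card ↥(Subgroup.zpowers x) = 17 := by rw [Nat.card_zpowers, hord]
  -- the centraliser of `x` is the centraliser of `⟨x⟩`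
  have hCH : Subgroup.centralizer ((Subgroup.zpowers x : Subgroup G) : Set G) =
      Subgroup.centralizer ({x} : Set G) := by
    ext y
    rw [Subgroup.mem_centralizer_iff, Subgroup.mem_centralizer_iff]
    constructor
    · intro h w hw
      rw [Set.mem_singleton_iff] at hw
      subst hw
      exact h w (Subgroup.mem_zpowers w)
    · intro h w hw
      obtain ⟨k, rfl⟩ := Subgroup.mem_zpowers_iff.mp hw
      have h1 : Commute x y := h x rfl
      exact (h1.zpow_left k).eq
  have hmemC : ∀ y : G, y ∈ Subgroup.centralizer ({x} : Set G) ↔ x * y = y * x := by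
    intro y
    rw [Subgroup.mem_centralizer_iff]
    constructor
    · intro hy
      exact hy x rfl
    · intro hy w hw
      rw [Set.mem_singleton_iff] at hw
      subst hw
      exact hy
  -- `z` normalises `⟨x⟩`
  have hzinv : z⁻¹ * x * z = x ^ 9 := by
    have e : z * x ^ 9 * z⁻¹ = x := by
      rw [← conj_pow, hzx, ← pow_mul, show 2 * 9 = 17 + 1 from rfl, pow_add, hx17, one_mul, pow_one]
    calc z⁻¹ * x * z = z⁻¹ * (z * x ^ 9 * z⁻¹) * z := by rw [e]
      _ = x ^ 9 := by group
  have hzN : z ∈ Subgroup.normalizer ((Subgroup.zpowers x : Subgroup G) : Set G) := by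
    rw [Subgroup.mem_normalizer_iff]
    intro w
    constructor
    · intro hw
      obtain ⟨k, rfl⟩ := Subgroup.mem_zpowers_iff.mp hw
      rw [← conj_zpow, hzx]
      exact Subgroup.zpow_mem _ (Subgroup.pow_mem _ (Subgroup.mem_zpowers x) 2) k
    · intro hw
      obtain ⟨k, hk⟩ := Subgroup.mem_zpowers_iff.mp hw
      have e : w = (z⁻¹ * x * z) ^ k := by
        have e1 : (z⁻¹ * x * z) ^ k = z⁻¹ * x ^ k * z := by
          have := conj_zpow (a := z⁻¹) (b := x) (i := k)
          rw [inv_inv] at this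
          exact this
        rw [e1, hk]
        group
      rw [e, hzinv]
      exact Subgroup.zpow_mem _ (Subgroup.pow_mem _ (Subgroup.mem_zpowers x) 9) k
  -- powers of `z` outside `C(x)`
  have hzpow : ∀ a : ℕ, z ^ a * x * (z ^ a)⁻¹ = x ^ (2 ^ a) := by
    intro a
    induction a with
    | zero => simp
    | succ a ih =>
      calc z ^ (a + 1) * x * (z ^ (a + 1))⁻¹ = z * (z ^ a * x * (z ^ a)⁻¹) * z⁻¹ := by
            rw [pow_succ']; group
        _ = z * x ^ (2 ^ a) * z⁻¹ := by rw [ih]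
        _ = (z * x * z⁻¹) ^ (2 ^ a) := by rw [conj_pow]
        _ = x ^ (2 ^ (a + 1)) := by rw [hzx, ← pow_mul, ← pow_succ']
  have hznC : ∀ a : ℕ, 0 < a → a < 8 → z ^ a ∉ Subgroup.centralizer ({x} : Set G) := by
    intro a h0 h8 hmem
    rw [hmemC] at hmem
    have e : z ^ a * x * (z ^ a)⁻¹ = x := by
      rw [← hmem]; group
    rw [hzpow a] at e
    have e2 : x ^ (2 ^ a) = x ^ 1 := by rw [e, pow_one]
    have e3 := pow_inj_mod.mp e2
    rw [hord] at e3
    exact ncxb_pow2 a h8 h0 e3
  -- the action of `N` on `⟨x⟩`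
  set N : Subgroup G := Subgroup.normalizer ((Subgroup.zpowers x : Subgroup G) : Set G) with hN
  set φ := (Subgroup.zpowers x).normalizerMonoidHom with hφ
  have hker : φ.ker = (Subgroup.centralizer ({x} : Set G)).subgroupOf N := by
    rw [hφ, Subgroup.normalizerMonoidHom_ker, hCH]
  have hCN : Subgroup.centralizer ({x} : Set G) ≤ N := by
    rw [← hCH]
    exact Subgroup.centralizer_le_normalizer _
  have hkercard : Nat.card ↥φ.ker = Nat.card ↥(Subgroup.centralizer ({x} : Set G)) := by
    rw [hker]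
    exact Nat.card_congr (Subgroup.subgroupOfEquivOfLe hCN).toEquiv
  have hautcard : Nat.card (MulAut ↥(Subgroup.zpowers x)) = 16 := by
    rw [IsCyclic.card_mulAut, hHcard]
    exact Nat.totient_prime (by norm_num)
  have hNcard : Nat.card ↥N =
      Nat.card ↥(Subgroup.centralizer ({x} : Set G)) * Nat.card ↥φ.range := by
    rw [← hkercard, ← Subgroup.index_ker, Subgroup.card_mul_index]
  have hd16 : Nat.card ↥φ.range ∣ 16 := by
    rw [← hautcard]
    exact Subgroup.card_subgroup_dvd_card φ.range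
  have hdpos : 0 < Nat.card ↥φ.range := Nat.card_pos
  have hzd : z ^ Nat.card ↥φ.range ∈ Subgroup.centralizer ({x} : Set G) := by
    have e1 : (⟨φ ⟨z, hzN⟩, ⟨_, rfl⟩⟩ : ↥φ.range) ^ Nat.card ↥φ.range = 1 := pow_card_eq_one'
    have e2 : φ ⟨z, hzN⟩ ^ Nat.card ↥φ.range = 1 := by
      have := congrArg Subtype.val e1
      simpa using this
    rw [← map_pow] at e2
    have e3 : (⟨z, hzN⟩ : ↥N) ^ Nat.card ↥φ.range ∈ φ.ker := e2
    rw [hker, Subgroup.mem_subgroupOf] at e3
    simpa using e3
  have hd8 : 8 ≤ Nat.card ↥φ.range := by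
    by_contra hlt
    push Not at hlt
    exact hznC _ hdpos hlt hzd
  have hd : Nat.card ↥φ.range = 8 ∨ Nat.card ↥φ.range = 16 := by
    have hle : Nat.card ↥φ.range ≤ 16 := Nat.le_of_dvd (by norm_num) hd16
    generalize Nat.card ↥φ.range = d at hd16 hd8 hle
    interval_cases d <;> omega
  -- `⟨x⟩ ≤ C(x)`
  have hHC : Subgroup.zpowers x ≤ Subgroup.centralizer ({x} : Set G) := by
    intro w hw
    obtain ⟨k, rfl⟩ := Subgroup.mem_zpowers_iff.mp hw
    rw [hmemC]
    exact ((Commute.refl x).zpow_right k).eq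
  obtain ⟨c, hc⟩ : 17 ∣ Nat.card ↥(Subgroup.centralizer ({x} : Set G)) := by
    have := Subgroup.card_dvd_of_le hHC
    rwa [hHcard] at this
  have hcodd : Odd c := by
    rw [hc] at hodd
    exact (Nat.odd_mul.mp hodd).2
  have hc225 : c ∣ 225 := by
    rw [hc] at hdvd
    have h1 : c ∣ 2 ^ 9 * 225 := by
      have h2 : 17 * c ∣ 17 * (2 ^ 9 * 225) := by norm_num; exact hdvd
      exact Nat.dvd_of_mul_dvd_mul_left (by norm_num) h2
    have h3 : Nat.Coprime c (2 ^ 9) := Nat.Coprime.pow_right 9 (Nat.coprime_two_right.mpr hcodd)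
    exact h3.dvd_of_dvd_mul_left h1
  -- Sylow count
  have hm0 : m ≠ 0 := by
    rintro rfl
    simp at hm
  have h17m : ¬ 17 ∣ m := by omega
  have hfac : (Nat.card G).factorization 17 = 1 := by
    rw [hG, Nat.factorization_mul (by norm_num) hm0, Finsupp.add_apply,
      Nat.Prime.factorization_self (by norm_num), Nat.factorization_eq_zero_of_not_dvd h17m]
  have hsyl := card_sylow_modEq_one 17 G
  rw [Sylow.card_eq_index_normalizer (Sylow.ofCard (Subgroup.zpowers x)
    (by rw [hHcard, hfac, pow_one]))] at hsyl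
  have hidx : N.index % 17 = 1 := hsyl
  have hmul : Nat.card ↥N * N.index = 17 * m := by
    rw [Subgroup.card_mul_index, hG]
  rw [hNcard, hc] at hmul
  have hm' : c * Nat.card ↥φ.range * N.index = m := by
    have : 17 * (c * Nat.card ↥φ.range * N.index) = 17 * m := by rw [← hmul]; ring
    exact Nat.eq_of_mul_eq_mul_left (by norm_num) this
  have hcd : (c * Nat.card ↥φ.range) % 17 = 8 := by
    rw [← hm', Nat.mul_mod, hidx, mul_one, Nat.mod_mod] at hm
    exact hm
  rcases hd with hd | hd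
  · -- index 8
    rw [hd] at hcd
    have hc1 := ncxb_div8 c (Nat.mem_divisors.mpr ⟨hc225, by norm_num⟩) hcd
    rw [hc1, mul_one] at hc
    have heq : Subgroup.zpowers x = Subgroup.centralizer ({x} : Set G) := by
      apply Subgroup.eq_of_le_of_card_ge hHC
      rw [hc, hHcard]
    have hgm : g ∈ Subgroup.zpowers x := by
      rw [heq, hmemC]
      exact hg.symm
    rw [← mem_powers_iff_mem_zpowers] at hgm
    obtain ⟨i, hi⟩ := (Submonoid.mem_powers_iff _ _).mp hgm
    exact ⟨i, hi.symm⟩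
  · -- index 16: impossible
    exfalso
    rw [hd] at hNcard
    have hzp : IsPGroup 2 ↥(Subgroup.zpowers (⟨z, hzN⟩ : ↥N)) := by
      have h8 : orderOf (⟨z, hzN⟩ : ↥N) ∣ 2 ^ 3 := by
        apply orderOf_dvd_of_pow_eq_one
        apply Subtype.ext
        simpa using hz8
      obtain ⟨k, -, hk⟩ := (Nat.dvd_prime_pow Nat.prime_two).mp h8
      exact IsPGroup.of_card (n := k) (by rw [Nat.card_zpowers, hk])
    obtain ⟨P, hzP⟩ := hzp.exists_le_sylow
    have h2C : ¬ 2 ∣ Nat.card ↥(Subgroup.centralizer ({x} : Set G)) := by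
      intro h
      exact (Nat.not_even_iff_odd.mpr hodd) (even_iff_two_dvd.mpr h)
    have hCne : Nat.card ↥(Subgroup.centralizer ({x} : Set G)) ≠ 0 := Nat.card_pos.ne'
    have h16 : (16 : ℕ).factorization 2 = 4 := by
      have e : (16 : ℕ) = 2 ^ 4 := by norm_num
      rw [e, Nat.Prime.factorization_pow Nat.prime_two]
      simp
    have hPcard : Nat.card ↥(P : Subgroup ↥N) = 16 := by
      rw [Sylow.card_eq_multiplicity, hNcard, Nat.factorization_mul hCne (by norm_num),
        Finsupp.add_apply, Nat.factorization_eq_zero_of_not_dvd h2C, h16]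
      norm_num
    -- injectivity of `φ` on `P`
    have hinj : Function.Injective (φ.comp (P : Subgroup ↥N).subtype) := by
      rw [injective_iff_map_eq_one]
      intro p hp
      have hpk : (p : ↥N) ∈ φ.ker := hp
      have o1 : orderOf (p : ↥N) ∣ 16 := by
        rw [Subgroup.orderOf_coe, ← hPcard]
        exact orderOf_dvd_natCard p
      have o2 : orderOf (p : ↥N) ∣ Nat.card ↥(Subgroup.centralizer ({x} : Set G)) := by
        rw [← hkercard]
        have := orderOf_dvd_natCard (⟨(p : ↥N), hpk⟩ : ↥φ.ker)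
        rwa [Subgroup.orderOf_mk] at this
      have hcop : Nat.Coprime 16 (Nat.card ↥(Subgroup.centralizer ({x} : Set G))) := by
        have : Nat.Coprime (2 ^ 4) (Nat.card ↥(Subgroup.centralizer ({x} : Set G))) :=
          Nat.Coprime.pow_left 4 (Nat.coprime_two_left.mpr hodd)
        simpa using this
      have o3 := Nat.eq_one_of_dvd_coprimes hcop o1 o2
      rw [orderOf_eq_one_iff] at o3
      exact Subtype.ext o3
    haveI : Fact (Nat.Prime (Nat.card ↥(Subgroup.zpowers x))) := ⟨by rw [hHcard]; norm_num⟩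
    haveI : IsCyclic ↥(P : Subgroup ↥N) :=
      isCyclic_of_injective ((IsCyclic.mulAutMulEquiv ↥(Subgroup.zpowers x)).toMonoidHom.comp
        (φ.comp (P : Subgroup ↥N).subtype))
        (by
          intro a b h
          exact hinj ((IsCyclic.mulAutMulEquiv ↥(Subgroup.zpowers x)).injective h))
    obtain ⟨g0, hg0⟩ := IsCyclic.exists_generator (α := ↥(P : Subgroup ↥N))
    have hg0ord : orderOf g0 = 16 := by rw [orderOf_eq_card_of_forall_mem_zpowers hg0, hPcard]
    obtain ⟨k, hk⟩ := Subgroup.mem_zpowers_iff.mp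
      (hg0 ⟨⟨z, hzN⟩, hzP (Subgroup.mem_zpowers _)⟩)
    have hcomm : Commute g0 (⟨⟨z, hzN⟩, hzP (Subgroup.mem_zpowers _)⟩ : ↥(P : Subgroup ↥N)) := by
      rw [← hk]
      exact (Commute.refl g0).zpow_right k
    have hcommG : ((g0 : ↥N) : G) * z = z * ((g0 : ↥N) : G) := by
      have := congrArg (fun q : ↥(P : Subgroup ↥N) => ((q : ↥N) : G)) hcomm.eq
      simpa using this
    have h8 := hCz _ hcommG
    have h8' : g0 ^ 8 = 1 := by
      apply Subtype.ext
      apply Subtype.ext
      simpa using h8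
    have h9 := orderOf_dvd_of_pow_eq_one h8'
    rw [hg0ord] at h9
    omega

end Cfsg.Agent.H12.Ho

universe u in
example : Cfsg.Agent.H10.HO.StNCXB.{u} := Cfsg.Agent.H12.Ho.ncxb.{u}
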