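import Mathlib
import Cfsg.Agent.H59.Fx2Defs

/-!
# S3390 (team project, helper59): piece FX-ORD2 — `|T| = 2`: the generator `x` of `T` has
`|C_S(x)| = 4`.
-/

set_option autoImplicit false

open scoped Pointwise

namespace Cfsg.Agent.H12.Fx2

open Cfsg.Agent.H59.Fx2

universe u v

/-- (FX-ORD2) -/
theorem ord2 : StOrd2.{u, v} := by
  intro G _ _ Ω _ _ S α β h hT
  classical
  obtain ⟨c, hcS, hc1, hcα, hcβ⟩ := h.exT
  obtain ⟨n, hnS, hnα⟩ := h.swap
  have hnβ : n • β = α := h.swapβ hnS hnα
  -- `T = {1, c}`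
  have hT2 : ∀ t ∈ S, t • α = α → t = 1 ∨ t = c := by
    intro t htS htα
    by_contra hcon
    push Not at hcon
    obtain ⟨y, hy, huniq⟩ := (Nat.card_eq_two_iff' (1 : ↥(S ⊓ MulAction.stabilizer G α))).mp hT
    have e1 : (⟨t, htS, htα⟩ : ↥(S ⊓ MulAction.stabilizer G α)) = y :=
      huniq _ (fun h1 => hcon.1 (congrArg Subtype.val h1))
    have e2 : (⟨c, hcS, hcα⟩ : ↥(S ⊓ MulAction.stabilizer G α)) = y :=
      huniq _ (fun h1 => hc1 (congrArg Subtype.val h1))
    exact hcon.2 (congrArg Subtype.val (e1.trans e2.symm))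
  -- elements of `S` commuting with `c` stabilize `{α, β}`
  have hfix : ∀ s ∈ S, s * c = c * s → s • α = α ∨ s • α = β := by
    intro s hs hsc
    apply h.fixT c hcS hc1 hcα
    rw [← mul_smul, ← hsc, mul_smul, hcα]
  -- `n` commutes with `c`
  have hnc : n * c = c * n := by
    have h1 : (n * c * n⁻¹) • β = β := by
      have e : n⁻¹ • β = α := by rw [← hnα, inv_smul_smul]
      rw [mul_smul, mul_smul, e, hcα, hnα]
    have h2 : (n * c * n⁻¹) ∈ S := S.mul_mem (S.mul_mem hnS hcS) (S.inv_mem hnS)
    have h3 : (n * c * n⁻¹) • α = α := h.fixα h2 h1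
    rcases hT2 _ h2 h3 with h4 | h4
    · exfalso
      apply hc1
      have e : c = n⁻¹ * (n * c * n⁻¹) * n := by group
      rw [e, h4]
      group
    · calc n * c = (n * c * n⁻¹) * n := by group
        _ = c * n := by rw [h4]
  have hc2 : c * c = 1 := by
    have h2 : (c * c) ∈ S := S.mul_mem hcS hcS
    have h3 : (c * c) • α = α := by rw [mul_smul, hcα, hcα]
    rcases hT2 _ h2 h3 with h4 | h4
    · exact h4
    · exfalso
      apply hc1
      calc c = c⁻¹ * (c * c) := by group
        _ = c⁻¹ * c := by rw [h4]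
        _ = 1 := by group
  obtain ⟨x, hx⟩ : ∃ x : ↥S, x = ⟨c, hcS⟩ := ⟨_, rfl⟩
  obtain ⟨n', hn'⟩ : ∃ n' : ↥S, n' = ⟨n, hnS⟩ := ⟨_, rfl⟩
  have hxv : (x : G) = c := by rw [hx]
  have hnv : (n' : G) = n := by rw [hn']
  have hmem : ∀ s : ↥S, s ∈ Subgroup.centralizer ({x} : Set ↥S) ↔ (s : G) * c = c * s := by
    intro s
    rw [Subgroup.mem_centralizer_iff]
    constructor
    · intro hs
      have h1 := congrArg Subtype.val (hs x (Set.mem_singleton x))
      rw [Subgroup.coe_mul, Subgroup.coe_mul, hxv] at h1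
      exact h1.symm
    · intro hs y hy
      rw [Set.mem_singleton_iff] at hy
      subst hy
      apply Subtype.ext
      rw [Subgroup.coe_mul, Subgroup.coe_mul, hxv]
      exact hs.symm
  have hset : ((Subgroup.centralizer ({x} : Set ↥S) : Subgroup ↥S) : Set ↥S) =
      {1, x, n', n' * x} := by
    ext s
    rw [SetLike.mem_coe, hmem]
    simp only [Set.mem_insert_iff, Set.mem_singleton_iff]
    constructor
    · intro hs
      rcases hfix s s.2 hs with h1 | h1
      · rcases hT2 s s.2 h1 with h2 | h2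
        · left
          exact Subtype.ext h2
        · right; left
          exact Subtype.ext (h2.trans hxv.symm)
      · have h2 : (n⁻¹ * (s : G)) • α = α := by
          rw [mul_smul, h1, ← hnα, inv_smul_smul]
        rcases hT2 _ (S.mul_mem (S.inv_mem hnS) s.2) h2 with h3 | h3
        · right; right; left
          apply Subtype.ext
          rw [hnv]
          calc (s : G) = n * (n⁻¹ * (s : G)) := by group
            _ = n := by rw [h3, mul_one]
        · right; right; right
          apply Subtype.ext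
          rw [Subgroup.coe_mul, hnv, hxv]
          calc (s : G) = n * (n⁻¹ * (s : G)) := by group
            _ = n * c := by rw [h3]
    · rintro (rfl | rfl | rfl | rfl)
      · simp
      · rw [hxv]
      · rw [hnv]
        exact hnc
      · rw [Subgroup.coe_mul, hnv, hxv]
        calc n * c * c = (c * n) * c := by rw [hnc]
          _ = c * (n * c) := by rw [mul_assoc]
  have hx1 : x ≠ 1 := fun h1 => hc1 (hxv ▸ congrArg Subtype.val h1)
  have hnα' : (n' : G) • α = β := by rw [hnv]; exact hnα
  have hcard : Nat.card ↥(Subgroup.centralizer ({x} : Set ↥S)) = 4 := by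
    have e1 : Nat.card ↥(Subgroup.centralizer ({x} : Set ↥S)) =
        ((Subgroup.centralizer ({x} : Set ↥S) : Subgroup ↥S) : Set ↥S).ncard :=
      _root_.Nat.card_coe_set_eq _
    rw [e1, hset]
    have d1 : (1 : ↥S) ∉ ({x, n', n' * x} : Set ↥S) := by
      simp only [Set.mem_insert_iff, Set.mem_singleton_iff, not_or]
      refine ⟨fun h1 => hx1 h1.symm, ?_, ?_⟩
      · intro h1
        have h2 : ((1 : ↥S) : G) • α = β := by rw [h1]; exact hnα'
        rw [Subgroup.coe_one, one_smul] at h2
        exact h.ne h2.symm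
      · intro h1
        have h2 : ((1 : ↥S) : G) • α = β := by
          rw [h1, Subgroup.coe_mul, mul_smul, hxv, hcα]
          exact hnα'
        rw [Subgroup.coe_one, one_smul] at h2
        exact h.ne h2.symm
    have d2 : x ∉ ({n', n' * x} : Set ↥S) := by
      simp only [Set.mem_insert_iff, Set.mem_singleton_iff, not_or]
      refine ⟨?_, ?_⟩
      · intro h1
        have h2 : (x : G) • α = β := by rw [h1]; exact hnα'
        rw [hxv, hcα] at h2
        exact h.ne h2.symm
      · intro h1
        have h2 : (x : G) • α = β := by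
          rw [h1, Subgroup.coe_mul, mul_smul, hxv, hcα]
          exact hnα'
        rw [hxv, hcα] at h2
        exact h.ne h2.symm
    have d3 : n' ≠ n' * x := by
      intro h1
      apply hx1
      calc x = n'⁻¹ * (n' * x) := by group
        _ = n'⁻¹ * n' := by rw [← h1]
        _ = 1 := by group
    rw [Set.ncard_insert_of_notMem d1, Set.ncard_insert_of_notMem d2, Set.ncard_pair d3]
  refine ⟨x, ?_, hcard, ?_⟩
  · apply orderOf_eq_prime
    · apply Subtype.ext
      rw [pow_two, Subgroup.coe_mul, hxv, hc2]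
      rfl
    · exact hx1
  · intro hS4 s hs
    have htop : Subgroup.centralizer ({x} : Set ↥S) = ⊤ :=
      Subgroup.eq_top_of_card_eq _ (hcard.trans hS4.symm)
    have h1 : (⟨s, hs⟩ : ↥S) ∈ Subgroup.centralizer ({x} : Set ↥S) := by
      rw [htop]
      exact Subgroup.mem_top _
    exact hfix s hs ((hmem _).mp h1)

example : StOrd2.{u, v} =
    (∀ {G : Type u} [Group G] [Finite G] {Ω : Type v} [Finite Ω] [MulAction G Ω]
    (S : Subgroup G) (α β : Ω), Cfg S α β →
    Nat.card ↥(S ⊓ MulAction.stabilizer G α) = 2 →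
    ∃ x : ↥S, orderOf x = 2 ∧
      (Nat.card ↥(Subgroup.centralizer ({x} : Set ↥S)) = 4) ∧
      (Nat.card ↥S = 4 → Idx2 S α β)) :=
  rfl

end Cfsg.Agent.H12.Fx2
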