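import Cfsg.Agent.H23.Cell3

set_option autoImplicit false

/-!
# The Chevalley group is generated by the root elements of the fundamental roots and their negatives

A light copy (helper12) of helper23's `Cfsg/Agent/H23/Gens.lean`, importing only `H23.Cell3`
(not the bundle `H23.AllB` of all seven tabulated types), for the pieces S2734-GA / S2211-GA.
-/

namespace Cfsg.Agent.H12.GraphFix

open Cfsg.Agent.H23

open Cfsg.Lie

variable {D : ChevalleyDatum} {F : Type*} [Field F] {z η : ℕ → ℕ → ℤ}

/-- The subgroup generated by the root elements of the fundamental roots and of their negatives. -/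
def fundGen (D : ChevalleyDatum) (F : Type*) [Field F] : Subgroup (GL D.Idx F) :=
  Subgroup.closure {g | ∃ (i : ℕ) (t : F), i < D.rank ∧
    ((g : Matrix D.Idx D.Idx F) = D.x F (D.simple i) t ∨
      (g : Matrix D.Idx D.Idx F) = D.x F (D.neg (D.simple i)) t)}

theorem xU_simple_mem_fundGen (hS : Sem D F z) (i : ℕ) (hi : i < D.rank) (t : F) :
    xU hS (D.simple i) t ∈ fundGen D F :=
  Subgroup.subset_closure ⟨i, t, hi, Or.inl rfl⟩

theorem xU_neg_simple_mem_fundGen (hS : Sem D F z) (i : ℕ) (hi : i < D.rank) (t : F) :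
    xU hS (D.neg (D.simple i)) t ∈ fundGen D F :=
  Subgroup.subset_closure ⟨i, t, hi, Or.inr rfl⟩

theorem nU_simple_mem_fundGen (hS : Sem D F z) (i : ℕ) (hi : i < D.rank) (a : F) :
    nU hS (D.simple i) a ∈ fundGen D F := by
  rw [nU_eq]
  exact Subgroup.mul_mem _ (Subgroup.mul_mem _ (xU_simple_mem_fundGen hS i hi _)
    (xU_neg_simple_mem_fundGen hS i hi _)) (xU_simple_mem_fundGen hS i hi _)

theorem nWU_mem_fundGen (hS : Sem D F z) (w : List ℕ) (hw : ∀ i ∈ w, i < D.rank) :
    nWU hS w ∈ fundGen D F := by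
  unfold nWU
  apply Subgroup.list_prod_mem
  intro g hg
  simp only [List.mem_map] at hg
  obtain ⟨i, hi, rfl⟩ := hg
  exact nU_simple_mem_fundGen hS i (hw i hi) 1

theorem xU_mem_fundGen (hS : Sem D F z) (hN : SemN D F η) (hT : Tab D) (r : ℕ) (hr : r < D.nroots)
    (t : F) : xU hS r t ∈ fundGen D F := by
  obtain ⟨w, hw, j, hj, e⟩ := exists_word_to_simple hT r hr
  obtain ⟨c, hc, h⟩ := nWU_conj hS hN hT w hw r hr
  have h1 := h t
  rw [e] at h1
  have h2 : xU hS r t = (nWU hS w)⁻¹ * xU hS (D.simple j) (c * t) * nWU hS w := by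
    rw [← h1]; group
  rw [h2]
  have hn := nWU_mem_fundGen hS w hw
  exact Subgroup.mul_mem _ (Subgroup.mul_mem _ (Subgroup.inv_mem _ hn)
    (xU_simple_mem_fundGen hS j hj _)) hn

theorem fundGen_eq_group (hS : Sem D F z) (hN : SemN D F η) (hT : Tab D) :
    fundGen D F = D.group F := by
  apply le_antisymm
  · unfold fundGen
    rw [Subgroup.closure_le]
    rintro g ⟨i, t, _, hg | hg⟩
    · rw [eq_xU hS g _ t hg]; exact xU_mem_group hS _ _
    · rw [eq_xU hS g _ t hg]; exact xU_mem_group hS _ _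
  · unfold ChevalleyDatum.group
    rw [Subgroup.closure_le]
    rintro g ⟨r, t, hg⟩
    have : g = xU hS r.val t := eq_xU hS g r.val t (by rw [hg, ChevalleyDatum.x, dif_pos r.isLt])
    rw [this]
    exact xU_mem_fundGen hS hN hT r.val r.isLt t

/-- Two endomorphisms of the Chevalley group agreeing on the root elements of the fundamental roots
and of their negatives are equal. -/
theorem hom_ext_fund (hS : Sem D F z) (hN : SemN D F η) (hT : Tab D)
    {M : Type*} [Monoid M] (a b : ↥(D.group F) →* M)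
    (h : ∀ (g : ↥(D.group F)) (i : ℕ) (t : F), i < D.rank →
      (((g : GL D.Idx F) : Matrix D.Idx D.Idx F) = D.x F (D.simple i) t ∨
        ((g : GL D.Idx F) : Matrix D.Idx D.Idx F) = D.x F (D.neg (D.simple i)) t) → a g = b g) :
    a = b := by
  have key : fundGen D F ≤ (a.eqLocus b).map (D.group F).subtype := by
    unfold fundGen
    rw [Subgroup.closure_le]
    rintro k ⟨i, t, hi, hk⟩
    have hkG : k ∈ D.group F := by
      rcases hk with hk | hk
      · rw [eq_xU hS k _ t hk]; exact xU_mem_group hS _ _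
      · rw [eq_xU hS k _ t hk]; exact xU_mem_group hS _ _
    exact ⟨⟨k, hkG⟩, h ⟨k, hkG⟩ i t hi hk, rfl⟩
  ext y
  obtain ⟨k, hk, e⟩ := key (by rw [fundGen_eq_group hS hN hT]; exact y.2)
  have : k = y := Subtype.ext e
  rw [← this]; exact hk

end Cfsg.Agent.H12.GraphFix
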