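import Mathlib
import Cfsg.Agent.H10.HO.Defs

/-!
# HO-CZL (piece of S2075, `Out(He)`; helper10's project)

If `|C(z)| ≤ 16`, `z` has order 8 and `t ∈ C(z) ∖ ⟨z⟩`, then `C(z) = ⟨z⟩ ∪ ⟨z⟩ t`.
-/

set_option autoImplicit false

namespace Cfsg.Agent.H12.Ho

universe u

/-- HO-CZL. -/
theorem czl : Cfsg.Agent.H10.HO.StCZL.{u} := by
  intro G _ _ z t hcard hz8 hz4 htz ht g hg
  haveI : Fact (Nat.Prime 2) := ⟨Nat.prime_two⟩
  have hord : orderOf z = 8 := by
    have h := orderOf_eq_prime_pow (x := z) (p := 2) (n := 2) (by norm_num; exact hz4)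
      (by norm_num; exact hz8)
    simpa using h
  have hmem : ∀ (a : ℕ) (b : Bool),
      z ^ a * (if b then t else 1) ∈ Subgroup.centralizer ({z} : Set G) := by
    intro a b
    rw [Subgroup.mem_centralizer_iff]
    intro y hy
    rw [Set.mem_singleton_iff] at hy
    subst hy
    cases b
    · simp only [Bool.false_eq_true, if_false, mul_one]
      rw [← pow_succ', ← pow_succ]
    · simp only [if_true]
      rw [← mul_assoc, ← pow_succ', mul_assoc (y ^ a) t y, htz, ← mul_assoc, ← pow_succ]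
  let f : Fin 8 × Bool → ↥(Subgroup.centralizer ({z} : Set G)) := fun p =>
    ⟨z ^ (p.1 : ℕ) * (if p.2 then t else 1), hmem _ _⟩
  have key : ∀ a a' : ℕ, a < 8 → a' < 8 → z ^ a = z ^ a' → a = a' := by
    intro a a' ha ha' h
    have h1 := pow_inj_mod.mp h
    rw [hord, Nat.mod_eq_of_lt ha, Nat.mod_eq_of_lt ha'] at h1
    exact h1
  have key2 : ∀ a a' : ℕ, a < 8 → a' < 8 → z ^ a ≠ z ^ a' * t := by
    intro a a' ha ha' h
    apply ht ((a + (8 - a')) % 8) (Nat.mod_lt _ (by norm_num))
    have hc : t * z ^ (8 - a') = z ^ (8 - a') * t :=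
      (Commute.pow_right (show Commute t z from htz) _).eq
    have h1 : z ^ (a + (8 - a')) = t := by
      rw [pow_add, h, mul_assoc, hc, ← mul_assoc, ← pow_add, show a' + (8 - a') = 8 by omega, hz8,
        one_mul]
    rw [← h1]
    conv_lhs => rw [← Nat.mod_add_div (a + (8 - a')) 8, pow_add, pow_mul, hz8, one_pow, mul_one]
  have hf : Function.Injective f := by
    rintro ⟨a, b⟩ ⟨a', b'⟩ h
    have h' : z ^ (a : ℕ) * (if b then t else 1) = z ^ (a' : ℕ) * (if b' then t else 1) :=
      congrArg Subtype.val h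
    cases b <;> cases b' <;> simp only [Bool.false_eq_true, if_false, if_true, mul_one] at h'
    · exact Prod.ext (Fin.ext (key _ _ a.2 a'.2 h')) rfl
    · exact absurd h' (key2 _ _ a.2 a'.2)
    · exact absurd h'.symm (key2 _ _ a'.2 a.2)
    · exact Prod.ext (Fin.ext (key _ _ a.2 a'.2 (mul_right_cancel h'))) rfl
  have hbij : Function.Bijective f := by
    apply hf.bijective_of_nat_card_le
    have h16 : Nat.card (Fin 8 × Bool) = 16 := by
      rw [Nat.card_eq_fintype_card]
      rfl
    rw [h16]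
    exact hcard
  have hgm : g ∈ Subgroup.centralizer ({z} : Set G) := by
    rw [Subgroup.mem_centralizer_iff]
    intro y hy
    rw [Set.mem_singleton_iff] at hy
    subst hy
    exact hg.symm
  obtain ⟨⟨a, b⟩, hab⟩ := hbij.2 ⟨g, hgm⟩
  have h' : z ^ (a : ℕ) * (if b then t else 1) = g := congrArg Subtype.val hab
  refine ⟨a, a.2, ?_⟩
  cases b
  · left
    simpa using h'.symm
  · right
    simpa using h'.symm

end Cfsg.Agent.H12.Ho

universe u in
example : Cfsg.Agent.H10.HO.StCZL.{u} := Cfsg.Agent.H12.Ho.czl.{u}
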