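import Mathlib
import Cfsg.Agent.H10.HO.Defs2

/-!
# HO-HG (piece of S2075, `Out(He)`; helper10's project)

An automorphism fixing `x, z, t` fixes `n` as well: `n⁻¹ β(n)` centralises `z` and the words
`evS p.1` (`p ∈ D`), so it lies in `C(z) = ⟨z⟩ ∪ ⟨z⟩ t` and the non-commutation hypotheses leave
only `1`.
-/

set_option autoImplicit false

namespace Cfsg.Agent.H12.Ho

open Cfsg.Agent.H10.HO

universe u

/-- An automorphism fixing `x, z, t` fixes every word in them. -/
theorem evS_fixed {G : Type u} [Group G] (x z t : G) (β : MulAut G) (hx : β x = x) (hz : β z = z)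
    (ht : β t = t) : ∀ w : List ℕ, β (evS x z t w) = evS x z t w := by
  intro w
  induction w with
  | nil =>
    show β 1 = 1
    exact map_one β
  | cons a w ih =>
    rcases a with _ | _ | _ | _ | m
    · show β (x * evS x z t w) = x * evS x z t w
      rw [map_mul, hx, ih]
    · show β (x⁻¹ * evS x z t w) = x⁻¹ * evS x z t w
      rw [map_mul, map_inv, hx, ih]
    · show β (z * evS x z t w) = z * evS x z t w
      rw [map_mul, hz, ih]
    · show β (z⁻¹ * evS x z t w) = z⁻¹ * evS x z t w
      rw [map_mul, map_inv, hz, ih]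
    · show β (t * evS x z t w) = t * evS x z t w
      rw [map_mul, ht, ih]

/-- HO-HG. -/
theorem hg : Cfsg.Agent.H10.HO.StHG.{u} := by
  intro G _ x z t n k D hCz hnz hD h1 h2 hgen β hx hz ht
  have hev := evS_fixed x z t β hx hz ht
  -- `n⁻¹ β(n)` commutes with every fixed `d` whose `n`-conjugate is fixed
  have key : ∀ d : G, β d = d → β (n * d * n⁻¹) = n * d * n⁻¹ →
      (n⁻¹ * β n) * d = d * (n⁻¹ * β n) := by
    intro d hd hnd
    have e : β n * d * (β n)⁻¹ = n * d * n⁻¹ := by
      rw [← hnd, map_mul, map_mul, map_inv, hd]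
    calc n⁻¹ * β n * d = n⁻¹ * (β n * d * (β n)⁻¹) * β n := by group
      _ = n⁻¹ * (n * d * n⁻¹) * β n := by rw [e]
      _ = d * (n⁻¹ * β n) := by group
  have hwz : (n⁻¹ * β n) * z = z * (n⁻¹ * β n) := by
    apply key z hz
    rw [hnz, map_pow, hz]
  have hwD : ∀ p ∈ D, (n⁻¹ * β n) * evS x z t p.1 = evS x z t p.1 * (n⁻¹ * β n) := by
    intro p hp
    apply key _ (hev p.1)
    rw [hD p hp, hev p.2]
  have hw1 : n⁻¹ * β n = 1 := by
    obtain ⟨a, ha, hwa | hwa⟩ := hCz _ hwz
    · by_cases ha0 : a = 0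
      · rw [hwa, ha0, pow_zero]
      · exfalso
        obtain ⟨p, hp, hne⟩ := h1 a (Nat.pos_of_ne_zero ha0) ha
        apply hne
        rw [← hwa]
        exact hwD p hp
    · exfalso
      obtain ⟨p, hp, hne⟩ := h2 a ha
      apply hne
      rw [← hwa]
      exact hwD p hp
  have hn : β n = n := by
    calc β n = n * (n⁻¹ * β n) := by group
      _ = n := by rw [hw1, mul_one]
  ext g
  rw [MulAut.one_apply]
  have hg : g ∈ Subgroup.closure ({x, z, t, n} : Set G) := by
    rw [hgen]
    exact Subgroup.mem_top g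
  induction hg using Subgroup.closure_induction with
  | mem y hy =>
    simp only [Set.mem_insert_iff, Set.mem_singleton_iff] at hy
    rcases hy with rfl | rfl | rfl | rfl
    · exact hx
    · exact hz
    · exact ht
    · exact hn
  | one => exact map_one β
  | mul a b _ _ iha ihb => rw [map_mul, iha, ihb]
  | inv a _ iha => rw [map_inv, iha]

end Cfsg.Agent.H12.Ho

universe u in
example : Cfsg.Agent.H10.HO.StHG.{u} := Cfsg.Agent.H12.Ho.hg.{u}
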