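import Mathlib
import Cfsg.Agent.H10.HO.Defs

/-!
# HO-NCXA (piece of S2075, `Out(He)`; helper10's project)

`⟨z⟩` (of order dividing 8) acts on `C(x)` by conjugation with the single fixed point 1, so
`|C(x)|` is odd; and `C(x)` is conjugate into `S`, so `|C(x)|` divides `|S|`.
-/

set_option autoImplicit false

namespace Cfsg.Agent.H12.Ho

universe u

/-- HO-NCXA. -/
theorem ncxa : Cfsg.Agent.H10.HO.StNCXA.{u} := by
  intro G _ _ x z t h S hx17 hzx hz8 hCz h1 h2 hScard hS
  classical
  haveI : Fact (Nat.Prime 2) := ⟨Nat.prime_two⟩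
  haveI : Fintype ↥(Subgroup.centralizer ({x} : Set G)) := Fintype.ofFinite _
  have hmemC : ∀ g : G, g ∈ Subgroup.centralizer ({x} : Set G) ↔ x * g = g * x := by
    intro g
    rw [Subgroup.mem_centralizer_iff]
    constructor
    · intro hg
      exact hg x rfl
    · intro hg y hy
      rw [Set.mem_singleton_iff] at hy
      subst hy
      exact hg
  refine ⟨?_, ?_⟩
  · -- `z` normalises `C(x)`
    have hnorm : ∀ c : G, c ∈ Subgroup.centralizer ({x} : Set G) →
        z * c * z⁻¹ ∈ Subgroup.centralizer ({x} : Set G) := by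
      intro c hc
      rw [hmemC] at hc ⊢
      have e1 : Commute (z * c * z⁻¹) (z * x * z⁻¹) := by
        show z * c * z⁻¹ * (z * x * z⁻¹) = z * x * z⁻¹ * (z * c * z⁻¹)
        calc z * c * z⁻¹ * (z * x * z⁻¹) = z * (c * x) * z⁻¹ := by group
          _ = z * (x * c) * z⁻¹ := by rw [hc]
          _ = z * x * z⁻¹ * (z * c * z⁻¹) := by group
      rw [hzx] at e1
      have e2 := e1.pow_right 9
      have e3 : (x ^ 2) ^ 9 = x := by
        rw [← pow_mul, show 2 * 9 = 17 + 1 from rfl, pow_add, hx17, one_mul, pow_one]
      rw [e3] at e2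
      exact e2.eq.symm
    let f : Function.End ↥(Subgroup.centralizer ({x} : Set G)) := fun c =>
      ⟨z * c.1 * z⁻¹, hnorm c.1 c.2⟩
    have hpow : ∀ (n : ℕ) (c : ↥(Subgroup.centralizer ({x} : Set G))),
        ((f ^ n) c).1 = z ^ n * c.1 * (z ^ n)⁻¹ := by
      intro n
      induction n with
      | zero =>
        intro c
        simp
        rfl
      | succ n ih =>
        intro c
        have e : (f ^ (n + 1)) c = f ((f ^ n) c) := by
          rw [pow_succ']
          rfl
        rw [e]
        show z * ((f ^ n) c).1 * z⁻¹ = _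
        rw [ih c, pow_succ']
        group
    have hf8 : f ^ 2 ^ 3 = 1 := by
      funext c
      apply Subtype.ext
      rw [hpow]
      norm_num
      rw [hz8]
      simp
      rfl
    have hmod := Equiv.Perm.card_fixedPoints_modEq (f := f) (p := 2) (n := 3) hf8
    have hfix : Fintype.card ↥(Function.fixedPoints f) = 1 := by
      rw [Fintype.card_eq_one_iff]
      refine ⟨⟨1, ?_⟩, ?_⟩
      · show f 1 = 1
        apply Subtype.ext
        show z * 1 * z⁻¹ = 1
        group
      · rintro ⟨c, hc⟩
        apply Subtype.ext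
        apply Subtype.ext
        show c.1 = 1
        have hc' : z * c.1 * z⁻¹ = c.1 := congrArg Subtype.val hc
        have hcz : c.1 * z = z * c.1 := by
          calc c.1 * z = (z * c.1 * z⁻¹) * z := by rw [hc']
            _ = z * c.1 := by group
        have hcx : x * c.1 = c.1 * x := (hmemC c.1).mp c.2
        obtain ⟨a, ha, hca | hca⟩ := hCz c.1 hcz
        · by_cases ha0 : a = 0
          · rw [hca, ha0, pow_zero]
          · exfalso
            apply h1 a (Nat.pos_of_ne_zero ha0) ha
            rw [← hca]
            exact hcx.symm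
        · exfalso
          apply h2 a ha
          rw [← hca]
          exact hcx.symm
    rw [hfix] at hmod
    rw [Nat.card_eq_fintype_card, Nat.odd_iff]
    exact hmod
  · have hle : (Subgroup.centralizer ({x} : Set G)).map (MulAut.conj h).toMonoidHom ≤ S := by
      rintro _ ⟨g, hg, rfl⟩
      simp only [MulEquiv.coe_toMonoidHom, MulAut.conj_apply]
      apply hS
      exact ((hmemC g).mp hg).symm
    have hdvd := Subgroup.card_dvd_of_le hle
    rw [Subgroup.card_map_of_injective (MulAut.conj h).injective, hScard] at hdvd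
    exact hdvd

end Cfsg.Agent.H12.Ho

universe u in
example : Cfsg.Agent.H10.HO.StNCXA.{u} := Cfsg.Agent.H12.Ho.ncxa.{u}
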