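import Mathlib
import Cfsg.Agent.H64.MgDefs

/-!
# MG-GOOD (helper12, for helper64's S3620)

`good : GOODStmt` : induction through a point stabilizer produces a 3-cycle.
-/

set_option autoImplicit false
open scoped Pointwise
open MulAction

namespace Cfsg.Agent.H12.Mg

open Cfsg.Agent.H64.Mg

universe u v

/-- **MG-GOOD**. -/
theorem good : GOODStmt.{u, v} := by
  intro N hM M α _ _ _ _ hcard Δ hJC h1 h2 a ha hprim
  classical
  letI : Fintype ↥(SubMulAction.ofStabilizer M a) := Fintype.ofFinite _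
  have hcard' : Fintype.card ↥(SubMulAction.ofStabilizer M a) = N := by
    rw [← Nat.card_eq_fintype_card, SubMulAction.nat_card_ofStabilizer_eq,
      Nat.card_eq_fintype_card, hcard]
    rfl
  obtain ⟨Δ', hΔ'⟩ : ∃ Δ' : Finset ↥(SubMulAction.ofStabilizer M a),
      Δ' = Δ.subtype (· ∈ SubMulAction.ofStabilizer M a) := ⟨_, rfl⟩
  have hmemΔ' : ∀ z : ↥(SubMulAction.ofStabilizer M a), z ∈ Δ' ↔ (z : α) ∈ Δ := by
    intro z
    rw [hΔ', Finset.mem_subtype]
  have hΔcard : Δ'.card + 1 = Δ.card := by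
    rw [hΔ', Finset.card_subtype]
    have h3 : Δ.filter (· ∈ SubMulAction.ofStabilizer M a) = Δ.erase a := by
      ext z
      simp only [Finset.mem_filter, Finset.mem_erase, SubMulAction.mem_ofStabilizer_iff]
      tauto
    rw [h3, Finset.card_erase_of_mem ha]
    have h4 := Finset.card_pos.mpr ⟨a, ha⟩
    omega
  have hJC' : JC ↥(stabilizer M a) Δ' := by
    intro x hx y hy
    have hx' : (x : α) ∉ Δ := fun h => hx ((hmemΔ' x).mpr h)
    have hy' : (y : α) ∉ Δ := fun h => hy ((hmemΔ' y).mpr h)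
    obtain ⟨g, hg, hgx⟩ := hJC (x : α) hx' (y : α) hy'
    have hga : g ∈ stabilizer M a := by
      rw [mem_stabilizer_iff]
      exact hg a ha
    refine ⟨⟨g, hga⟩, ?_, ?_⟩
    · intro z hz
      apply Subtype.ext
      show g • (z : α) = z
      exact hg _ ((hmemΔ' z).mp hz)
    · apply Subtype.ext
      show g • (x : α) = y
      exact hgx
  have hAll := hM ↥(stabilizer M a) ↥(SubMulAction.ofStabilizer M a) hcard' hprim Δ'
    (by omega) (by omega) hJC'
  have h3 : 2 < Fintype.card ↥(SubMulAction.ofStabilizer M a) := by omega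
  obtain ⟨p, q, r, hpq, hpr, hqr⟩ := Fintype.two_lt_card_iff.mp h3
  obtain ⟨g, hg⟩ := hAll (Equiv.swap p q * Equiv.swap p r) (by
    rw [Equiv.Perm.sign_mul, Equiv.Perm.sign_swap hpq, Equiv.Perm.sign_swap hpr]
    rfl)
  refine ⟨(g : M), ?_⟩
  have hpa : (p : α) ≠ a := SubMulAction.neq_of_mem_ofStabilizer M a
  have hqa : (q : α) ≠ a := SubMulAction.neq_of_mem_ofStabilizer M a
  have hra : (r : α) ≠ a := SubMulAction.neq_of_mem_ofStabilizer M a
  have hinj : Function.Injective (Subtype.val : ↥(SubMulAction.ofStabilizer M a) → α) :=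
    Subtype.val_injective
  have heq : (MulAction.toPerm (g : M) : Equiv.Perm α)
      = Equiv.swap (p : α) (q : α) * Equiv.swap (p : α) (r : α) := by
    ext z
    rw [MulAction.toPerm_apply]
    by_cases hz : z = a
    · have hga : (g : M) • a = a := g.2
      rw [hz, hga, Equiv.Perm.mul_apply, Equiv.swap_apply_of_ne_of_ne hpa.symm hra.symm,
        Equiv.swap_apply_of_ne_of_ne hpa.symm hqa.symm]
    · have hz' : z ∈ SubMulAction.ofStabilizer M a :=
        (SubMulAction.mem_ofStabilizer_iff M a).mpr hz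
      have h6 := congrArg Subtype.val (hg ⟨z, hz'⟩)
      have h7 : ((g • (⟨z, hz'⟩ : ↥(SubMulAction.ofStabilizer M a)) :
          ↥(SubMulAction.ofStabilizer M a)) : α) = (g : M) • z := rfl
      rw [h7] at h6
      rw [h6, Equiv.Perm.mul_apply, Equiv.Perm.mul_apply, ← hinj.swap_apply, ← hinj.swap_apply]
  rw [heq]
  exact Equiv.Perm.isThreeCycle_swap_mul_swap_same (fun e => hpq (Subtype.ext e))
    (fun e => hpr (Subtype.ext e)) (fun e => hqr (Subtype.ext e))

example : GOODStmt.{u, v} := good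

end Cfsg.Agent.H12.Mg
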