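import Cfsg.Agent.H7.RCDefs0

/-!
# S1156 piece RC-NTC (for helper7)

`ntc : StNTC`: for a prime `p > 3` dividing `q ^ 2 - q + 1`, the `p`-part of
`∏ i : Fin 7, (q ^ 7 - q ^ i)` is at most that of `q ^ 6 - 1` (`q` has order 6 modulo `p`).
-/

set_option autoImplicit false

namespace Cfsg.Agent.H12.RC

open Matrix Cfsg.Agent.H7.RC

theorem ntc : StNTC := by
  intro q p hq hp hp3 hdvd
  haveI := Fact.mk hp
  have hq1 : ∀ j : ℕ, 1 ≤ q ^ j := fun j => Nat.one_le_pow _ _ (by omega)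
  have hqq : q ≤ q ^ 2 := by nlinarith
  have hx : ((q : ZMod p)) ^ 2 - (q : ZMod p) + 1 = 0 := by
    have h := (ZMod.natCast_eq_zero_iff _ _).mpr hdvd
    rw [Nat.cast_add, Nat.cast_sub hqq, Nat.cast_pow, Nat.cast_one] at h
    exact h
  have hn : ∀ n : ℕ, 0 < n → n ≤ 3 → ((n : ℕ) : ZMod p) ≠ 0 := by
    intro n hn0 hn3 h
    rw [ZMod.natCast_eq_zero_iff] at h
    have := Nat.le_of_dvd hn0 h
    omega
  have h1 : (1 : ZMod p) ≠ 0 := one_ne_zero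
  have h2 : (2 : ZMod p) ≠ 0 := by
    have := hn 2 (by norm_num) (by norm_num)
    exact_mod_cast this
  have h3 : (3 : ZMod p) ≠ 0 := by
    have := hn 3 (by norm_num) (by norm_num)
    exact_mod_cast this
  have hcast : ∀ j : ℕ, p ∣ q ^ j - 1 → (q : ZMod p) ^ j = 1 := by
    intro j hj
    have h := (ZMod.natCast_eq_zero_iff _ _).mpr hj
    rw [Nat.cast_sub (hq1 j), Nat.cast_pow, Nat.cast_one, sub_eq_zero] at h
    exact h
  have hnq : ¬ p ∣ q := by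
    intro h
    have h0 : (q : ZMod p) = 0 := (ZMod.natCast_eq_zero_iff _ _).mpr h
    rw [h0] at hx
    simp at hx
  have hnqk : ∀ k : ℕ, ¬ p ∣ q ^ k := fun k h => hnq (hp.dvd_of_dvd_pow h)
  have n1 : ¬ p ∣ q ^ 1 - 1 := fun h => h1 (by
    have e := hcast 1 h
    linear_combination hx - (q : ZMod p) * e)
  have n2 : ¬ p ∣ q ^ 2 - 1 := fun h => h3 (by
    have e := hcast 2 h
    linear_combination (-(q : ZMod p) - 1) * e + ((q : ZMod p) + 2) * hx)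
  have n3 : ¬ p ∣ q ^ 3 - 1 := fun h => h2 (by
    have e := hcast 3 h
    linear_combination ((q : ZMod p) + 1) * hx - e)
  have n4 : ¬ p ∣ q ^ 4 - 1 := fun h => h3 (by
    have e := hcast 4 h
    linear_combination ((q : ZMod p) - 2) * e +
      (1 - ((q : ZMod p) - 2) * ((q : ZMod p) ^ 2 + (q : ZMod p))) * hx)
  have n5 : ¬ p ∣ q ^ 5 - 1 := fun h => h1 (by
    have e := hcast 5 h
    linear_combination ((q : ZMod p) - 1) * e +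
      (1 - ((q : ZMod p) - 1) * ((q : ZMod p) ^ 3 + (q : ZMod p) ^ 2 - 1)) * hx)
  have n7 : ¬ p ∣ q ^ 7 - 1 := fun h => h1 (by
    have e := hcast 7 h
    linear_combination (-(q : ZMod p)) * e +
      (1 + (q : ZMod p) ^ 2 * ((q : ZMod p) ^ 3 - 1) * ((q : ZMod p) + 1)) * hx)
  -- factor the product
  have hfac : ∀ i : ℕ, i ≤ 7 → q ^ 7 - q ^ i = q ^ i * (q ^ (7 - i) - 1) := by
    intro i hi
    rw [Nat.mul_sub, mul_one, ← pow_add]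
    congr 2
    omega
  have hprod : ∏ i : Fin 7, (q ^ 7 - q ^ (i : ℕ)) =
      (q ^ 6 - 1) * ((q ^ 7 - 1) * q * (q ^ 2 * (q ^ 5 - 1)) * (q ^ 3 * (q ^ 4 - 1)) *
        (q ^ 4 * (q ^ 3 - 1)) * (q ^ 5 * (q ^ 2 - 1)) * (q ^ 6 * (q ^ 1 - 1))) := by
    rw [Fin.prod_univ_seven]
    have e0 : q ^ 7 - q ^ ((0 : Fin 7) : ℕ) = q ^ 7 - 1 := by simp
    have e1 : q ^ 7 - q ^ ((1 : Fin 7) : ℕ) = q * (q ^ 6 - 1) := by
      have := hfac 1 (by norm_num)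
      simpa using this
    have e2 : q ^ 7 - q ^ ((2 : Fin 7) : ℕ) = q ^ 2 * (q ^ 5 - 1) := hfac 2 (by norm_num)
    have e3 : q ^ 7 - q ^ ((3 : Fin 7) : ℕ) = q ^ 3 * (q ^ 4 - 1) := hfac 3 (by norm_num)
    have e4 : q ^ 7 - q ^ ((4 : Fin 7) : ℕ) = q ^ 4 * (q ^ 3 - 1) := hfac 4 (by norm_num)
    have e5 : q ^ 7 - q ^ ((5 : Fin 7) : ℕ) = q ^ 5 * (q ^ 2 - 1) := hfac 5 (by norm_num)
    have e6 : q ^ 7 - q ^ ((6 : Fin 7) : ℕ) = q ^ 6 * (q ^ 1 - 1) := hfac 6 (by norm_num)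
    rw [e0, e1, e2, e3, e4, e5, e6]
    ring
  have hC : ¬ p ∣ ((q ^ 7 - 1) * q * (q ^ 2 * (q ^ 5 - 1)) * (q ^ 3 * (q ^ 4 - 1)) *
        (q ^ 4 * (q ^ 3 - 1)) * (q ^ 5 * (q ^ 2 - 1)) * (q ^ 6 * (q ^ 1 - 1))) := by
    refine hp.not_dvd_mul (hp.not_dvd_mul (hp.not_dvd_mul (hp.not_dvd_mul (hp.not_dvd_mul
      (hp.not_dvd_mul n7 hnq) ?_) ?_) ?_) ?_) ?_
    · exact hp.not_dvd_mul (hnqk 2) n5
    · exact hp.not_dvd_mul (hnqk 3) n4
    · exact hp.not_dvd_mul (hnqk 4) n3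
    · exact hp.not_dvd_mul (hnqk 5) n2
    · exact hp.not_dvd_mul (hnqk 6) n1
  have hA0 : q ^ 6 - 1 ≠ 0 := by
    have : 2 ^ 6 ≤ q ^ 6 := Nat.pow_le_pow_left hq 6
    omega
  have hC0 : ((q ^ 7 - 1) * q * (q ^ 2 * (q ^ 5 - 1)) * (q ^ 3 * (q ^ 4 - 1)) *
        (q ^ 4 * (q ^ 3 - 1)) * (q ^ 5 * (q ^ 2 - 1)) * (q ^ 6 * (q ^ 1 - 1))) ≠ 0 := by
    intro h
    rw [h] at hC
    exact hC (dvd_zero p)
  rw [hprod, Nat.factorization_mul hA0 hC0, Finsupp.add_apply,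
    Nat.factorization_eq_zero_of_not_dvd hC, add_zero]

example : StNTC := ntc

end Cfsg.Agent.H12.RC
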