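import Cfsg.Agent.H7.RCDefs0

/-!
# S1156 piece RC-SINGER (for helper7)

`singer : StSinger`: `GL₇(K)` contains a cyclic subgroup of order `|K| ^ 6 - 1`, namely the
image of `Lˣ` (`L` the extension of degree 6) acting on `L × K`.
-/

set_option autoImplicit false

namespace Cfsg.Agent.H12.RC

open Matrix Cfsg.Agent.H7.RC

universe u

/-- from an extension `L / K` of degree 6 to a cyclic subgroup of `GL₇(K)` of order `|L| - 1` -/
theorem singer_of_ext (K : Type u) [Field K] [Fintype K] (L : Type*) [Field L] [Finite L]
    [Algebra K L] (hfr : Module.finrank K L = 6) (hcard : Nat.card L = Fintype.card K ^ 6) :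
    ∃ Z : Subgroup (GL (Fin 7) K), IsCyclic Z ∧ Nat.card Z = Fintype.card K ^ 6 - 1 := by
  classical
  haveI : Module.Finite K L := Module.Finite.of_finite
  let φ : L →* Module.End K (L × K) :=
    { toFun := fun l => LinearMap.prodMap (LinearMap.mulLeft K l) LinearMap.id
      map_one' := by
        apply LinearMap.ext
        rintro ⟨a, c⟩
        simp
      map_mul' := fun x y => by
        apply LinearMap.ext
        rintro ⟨a, c⟩
        simp }
  have hφ : Function.Injective φ := by
    intro x y hxy
    have h := congrArg (fun f : Module.End K (L × K) => (f (1, 0)).1) hxy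
    simpa [φ] using h
  have hfr7 : Module.finrank K (L × K) = 7 := by
    rw [Module.finrank_prod, hfr, Module.finrank_self]
  let b : Module.Basis (Fin 7) K (L × K) := Module.finBasisOfFinrankEq K (L × K) hfr7
  let ψ : Module.End K (L × K) ≃* Matrix (Fin 7) (Fin 7) K :=
    (LinearMap.toMatrixAlgEquiv b).toMulEquiv
  let ρ : Lˣ →* GL (Fin 7) K := (Units.map ψ.toMonoidHom).comp (Units.map φ)
  have hρ : Function.Injective ρ := by
    have h1 : Function.Injective (Units.map φ) := Units.map_injective hφ
    have h2 : Function.Injective (Units.map ψ.toMonoidHom) :=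
      Units.map_injective ψ.injective
    exact h2.comp h1
  refine ⟨ρ.range, ?_, ?_⟩
  · exact isCyclic_of_surjective ρ.rangeRestrict ρ.rangeRestrict_surjective
  · rw [Nat.card_congr (MonoidHom.ofInjective hρ).toEquiv.symm, Nat.card_units, hcard]

theorem singer : StSinger.{u} := by
  intro K _ _
  obtain ⟨p, hp⟩ := CharP.exists K
  haveI := hp
  haveI : Fact p.Prime := ⟨CharP.char_is_prime K p⟩
  exact singer_of_ext K (FiniteField.Extension K p 6) (FiniteField.finrank_extension K p 6)
    (by rw [FiniteField.natCard_extension, Nat.card_eq_fintype_card])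

example : StSinger.{u} := singer

end Cfsg.Agent.H12.RC
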