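import Mathlib

/-!
# Centralizers of conjugate elements (helper12; generic lemmas for S2359 pieces COREA / COREB)
-/

set_option autoImplicit false

namespace Cfsg.Agent.H12.RT

theorem mem_centralizer_singleton {G : Type*} [Group G] {y z : G} :
    z ∈ Subgroup.centralizer ({y} : Set G) ↔ y * z = z * y := by
  rw [Subgroup.mem_centralizer_iff]
  constructor
  · intro h
    exact h y rfl
  · intro h w hw
    rw [Set.mem_singleton_iff] at hw
    subst hw
    exact h

theorem conj_mem_centralizer {G : Type*} [Group G] (g : G) {y z : G}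
    (hz : z ∈ Subgroup.centralizer ({y} : Set G)) :
    g * z * g⁻¹ ∈ Subgroup.centralizer ({g * y * g⁻¹} : Set G) := by
  rw [mem_centralizer_singleton] at hz ⊢
  calc g * y * g⁻¹ * (g * z * g⁻¹) = g * (y * z) * g⁻¹ := by group
    _ = g * (z * y) * g⁻¹ := by rw [hz]
    _ = g * z * g⁻¹ * (g * y * g⁻¹) := by group

theorem conj_inv_mem_centralizer {G : Type*} [Group G] (g : G) {y z : G}
    (hz : z ∈ Subgroup.centralizer ({g * y * g⁻¹} : Set G)) :
    g⁻¹ * z * g ∈ Subgroup.centralizer ({y} : Set G) := by
  have h1 := conj_mem_centralizer g⁻¹ hz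
  have h2 : g⁻¹ * (g * y * g⁻¹) * g⁻¹⁻¹ = y := by group
  have h3 : g⁻¹ * z * g⁻¹⁻¹ = g⁻¹ * z * g := by group
  rw [h2, h3] at h1
  exact h1

theorem centralizer_conj_eq_map {G : Type*} [Group G] (g y : G) :
    Subgroup.centralizer ({g * y * g⁻¹} : Set G)
      = (Subgroup.centralizer ({y} : Set G)).map (MulAut.conj g).toMonoidHom := by
  ext z
  rw [Subgroup.mem_map]
  constructor
  · intro hz
    refine ⟨g⁻¹ * z * g, conj_inv_mem_centralizer g hz, ?_⟩
    show (MulAut.conj g) (g⁻¹ * z * g) = z
    rw [MulAut.conj_apply]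
    group
  · rintro ⟨w, hw, rfl⟩
    show (MulAut.conj g) w ∈ _
    rw [MulAut.conj_apply]
    exact conj_mem_centralizer g hw

theorem card_centralizer_conj {G : Type*} [Group G] (g y : G) :
    Nat.card ↥(Subgroup.centralizer ({g * y * g⁻¹} : Set G))
      = Nat.card ↥(Subgroup.centralizer ({y} : Set G)) := by
  rw [centralizer_conj_eq_map]
  exact Subgroup.card_map_of_injective (MulAut.conj g).injective

theorem isCyclic_centralizer_of_conj {G : Type*} [Group G] (g y : G)
    (h : IsCyclic ↥(Subgroup.centralizer ({g * y * g⁻¹} : Set G))) :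
    IsCyclic ↥(Subgroup.centralizer ({y} : Set G)) := by
  rw [centralizer_conj_eq_map] at h
  exact isCyclic_of_surjective
    ((Subgroup.equivMapOfInjective (Subgroup.centralizer ({y} : Set G))
      (MulAut.conj g).toMonoidHom (MulAut.conj g).injective).symm.toMonoidHom)
    (Subgroup.equivMapOfInjective (Subgroup.centralizer ({y} : Set G))
      (MulAut.conj g).toMonoidHom (MulAut.conj g).injective).symm.surjective

theorem orderOf_conj_eq {G : Type*} [Group G] (g z : G) :
    orderOf (g * z * g⁻¹) = orderOf z :=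
  (MulAut.conj g).orderOf_eq z

end Cfsg.Agent.H12.RT
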