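import Cfsg.Agent.H7.RTDefs
import Cfsg.Agent.H12.RTConjCent

/-!
# RT-COREA (helper12, for helper7's S2359)

`coreA`: the centralizer of a non-trivial element of order dividing `(q-1)/2` is cyclic of
order `q - 1` (it is a conjugate of `H¹`).
-/

set_option autoImplicit false
open Cfsg Cfsg.Lie

namespace Cfsg.Agent.H12.RT

open Cfsg.Agent.H22 Cfsg.Agent.H22.GEx Cfsg.Agent.H22.Ree Cfsg.Agent.H45.R2 Cfsg.Agent.H7.RC
  Cfsg.Agent.H7.RT Matrix

universe u

variable {K : Type u} [Field K] [Fintype K] [CharP K 3] {m : ℕ}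

/-- **RT-COREA**. -/
theorem coreA (C : Ctx K (3 ^ m)) (hK : Fintype.card K = 3 ^ (2 * m + 1))
    (hcen : StCentH C) (hcj : StConjH K m) : StCoreA K m := by
  intro y hy1 hyn
  obtain ⟨g, hg⟩ := hcj y hy1 hyn
  obtain ⟨h, hh⟩ : ∃ h : ↥(twistedG2 K (3 ^ m)), h = g * y * g⁻¹ := ⟨_, rfl⟩
  rw [← hh] at hg
  have hord : orderOf h = orderOf y := by rw [hh]; exact orderOf_conj_eq g y
  have hodd : Odd ((3 ^ (2 * m + 1) - 1) / 2) := by
    have h8 := q_mod8 m
    rw [Nat.odd_iff]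
    omega
  have hyodd : Odd (orderOf y) := Odd.of_dvd_nat hodd hyn
  have hh2 : h * h ≠ 1 := by
    intro e
    have h2 : orderOf h ∣ 2 := orderOf_dvd_of_pow_eq_one (by rw [pow_two]; exact e)
    rw [hord] at h2
    have h3 : orderOf y = 1 := by
      have h4 := Nat.le_of_dvd (by norm_num) h2
      rcases hyodd with ⟨k, hk⟩
      omega
    exact hy1 (orderOf_eq_one_iff.mp h3)
  have hcycH : IsCyclic ↥(chevG2.diagonalSubgroup K ⊓ twistedG2 K (3 ^ m)) := C.H1_cyclic
  have hcent : Subgroup.centralizer ({h} : Set ↥(twistedG2 K (3 ^ m))) = H1G K (3 ^ m) := by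
    ext z
    rw [mem_centralizer_singleton, mem_H1G]
    constructor
    · intro hz
      refine hcen (h : GL chevG2.Idx K) ⟨(mem_H1G h).mp hg, h.2⟩ ?_ (z : GL chevG2.Idx K) z.2 ?_
      · intro e
        apply hh2
        apply Subtype.ext
        exact e
      · exact (congrArg Subtype.val hz).symm
    · intro hz
      have hcomm := (Std.Commutative.comm (op := (· * · :
        ↥(chevG2.diagonalSubgroup K ⊓ twistedG2 K (3 ^ m)) → _ → _))
        ⟨(h : GL chevG2.Idx K), ⟨(mem_H1G h).mp hg, h.2⟩⟩ ⟨(z : GL chevG2.Idx K), ⟨hz, z.2⟩⟩)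
      have h9 : (h : GL chevG2.Idx K) * (z : GL chevG2.Idx K)
          = (z : GL chevG2.Idx K) * (h : GL chevG2.Idx K) := congrArg Subtype.val hcomm
      apply Subtype.ext
      exact h9
  have hcardH : Nat.card ↥(H1G K (3 ^ m)) = 3 ^ (2 * m + 1) - 1 := by
    rw [← C.card_H1 hK]
    exact Nat.card_congr (Subgroup.subgroupOfEquivOfLe inf_le_right).toEquiv
  have hcycG : IsCyclic ↥(H1G K (3 ^ m)) :=
    isCyclic_of_surjective
      ((Subgroup.subgroupOfEquivOfLe (inf_le_right :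
        chevG2.diagonalSubgroup K ⊓ twistedG2 K (3 ^ m) ≤ twistedG2 K (3 ^ m))).symm.toMonoidHom)
      (Subgroup.subgroupOfEquivOfLe (inf_le_right :
        chevG2.diagonalSubgroup K ⊓ twistedG2 K (3 ^ m) ≤ twistedG2 K (3 ^ m))).symm.surjective
  refine ⟨?_, ?_⟩
  · apply isCyclic_centralizer_of_conj g y
    rw [← hh, hcent]
    exact hcycG
  · rw [← card_centralizer_conj g y, ← hh, hcent]
    exact hcardH

example (C : Ctx K (3 ^ m)) (hK : Fintype.card K = 3 ^ (2 * m + 1))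
    (hcen : StCentH C) (hcj : StConjH K m) : StCoreA K m := coreA C hK hcen hcj

end Cfsg.Agent.H12.RT
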