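import Cfsg.Agent.H7.RTDefs
import Cfsg.Agent.H12.RTConjCent

/-!
# RT-COREB (helper12, for helper7's S2359)

`coreB`: the centralizer of a non-trivial element of order dividing `(q+1)/4` is abelian of
order `q + 1` and has no element of order 4 (transport of `D_t` along a conjugation).
-/

set_option autoImplicit false
open Cfsg Cfsg.Lie

namespace Cfsg.Agent.H12.RT

open Cfsg.Agent.H22 Cfsg.Agent.H22.GEx Cfsg.Agent.H22.Ree Cfsg.Agent.H45.R2 Cfsg.Agent.H7.RC
  Cfsg.Agent.H7.RT Matrix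

universe u

variable {K : Type u} [Field K] [Fintype K] [CharP K 3] {m : ℕ}

/-- **RT-COREB**. -/
theorem coreB (C : Ctx K (3 ^ m)) (hc : CommStmt (K := K)) (hmem : MemStmt C)
    (hcj : StConjPsi C hc hmem) (hcore : StCoreB' C hc hmem) (hds : StDStruct C hc hmem) :
    StCoreB K m := by
  intro y hy1 hyn
  obtain ⟨g, t, hgt, ht1, htodd, htdvd⟩ := hcj y hy1 hyn
  obtain ⟨hab, hcard, hno4, hcomm, -⟩ := hds t ht1 htodd htdvd
  have hcent : Subgroup.centralizer ({g * y * g⁻¹} : Set ↥(twistedG2 K (3 ^ m)))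
      = DSub C hc hmem t := by
    rw [hgt]
    ext z
    rw [mem_centralizer_singleton]
    constructor
    · intro hz
      exact hcore t ht1 htodd htdvd z hz.symm
    · intro hz
      exact (hcomm z hz).symm
  refine ⟨?_, ?_, ?_⟩
  · intro z₁ hz₁ z₂ hz₂
    have h1 := conj_mem_centralizer g hz₁
    have h2 := conj_mem_centralizer g hz₂
    rw [hcent] at h1 h2
    have h3 := hab _ h1 _ h2
    have h4 : z₁ * z₂ = g⁻¹ * (g * z₁ * g⁻¹ * (g * z₂ * g⁻¹)) * g := by group
    have h5 : z₂ * z₁ = g⁻¹ * (g * z₂ * g⁻¹ * (g * z₁ * g⁻¹)) * g := by group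
    rw [h4, h5, h3]
  · rw [← card_centralizer_conj g y, hcent]
    exact hcard
  · intro z hz
    have h1 := conj_mem_centralizer g hz
    rw [hcent] at h1
    have h2 := hno4 _ h1
    rwa [orderOf_conj_eq] at h2

example (C : Ctx K (3 ^ m)) (hc : CommStmt (K := K)) (hmem : MemStmt C)
    (hcj : StConjPsi C hc hmem) (hcore : StCoreB' C hc hmem) (hds : StDStruct C hc hmem) :
    StCoreB K m := coreB C hc hmem hcj hcore hds

end Cfsg.Agent.H12.RT
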