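import Cfsg.Agent.H7.RTDefs

/-!
# RT-DAB (helper12, for helper7's S2359)

`dAb`: `D_t = ψ(C_{SL₂}(t)) ⟨a⟩` is abelian and centralizes `ψ(t)`.
-/

set_option autoImplicit false
open Cfsg Cfsg.Lie

namespace Cfsg.Agent.H12.RT

open Cfsg.Agent.H22 Cfsg.Agent.H22.GEx Cfsg.Agent.H22.Ree Cfsg.Agent.H45.R2 Cfsg.Agent.H7.RC
  Cfsg.Agent.H7.RT Matrix

universe u

variable {K : Type u} [Field K] [Fintype K] [CharP K 3] {m : ℕ}

/-- **RT-DAB**. -/
theorem dAb (C : Ctx K (3 ^ m)) (hK : Fintype.card K = 3 ^ (2 * m + 1))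
    (hc : CommStmt (K := K)) (hmem : MemStmt C) (hac : ACommStmt C)
    (hdm : StDMem C hc hmem) (hT : StSL2Tor.{u}) : StDAb C hc hmem := by
  intro t ht1 htodd htdvd
  have hKodd : Odd (Fintype.card K) := by
    rw [hK]
    exact Odd.pow (by decide)
  have hcyc : IsCyclic ↥(Subgroup.centralizer ({t} : Set (SpecialLinearGroup (Fin 2) K))) :=
    (hT K hKodd t ht1 htodd (by rw [hK]; exact htdvd)).1
  have hscomm : ∀ s₁ ∈ Subgroup.centralizer ({t} : Set (SpecialLinearGroup (Fin 2) K)),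
      ∀ s₂ ∈ Subgroup.centralizer ({t} : Set (SpecialLinearGroup (Fin 2) K)),
        Commute s₁ s₂ := by
    intro s₁ h₁ s₂ h₂
    have h3 := Std.Commutative.comm (op := (· * · :
      ↥(Subgroup.centralizer ({t} : Set (SpecialLinearGroup (Fin 2) K))) → _ → _))
      ⟨s₁, h₁⟩ ⟨s₂, h₂⟩
    exact congrArg Subtype.val h3
  have hpsi : ∀ s₁ s₂ : SpecialLinearGroup (Fin 2) K, Commute s₁ s₂ →
      Commute (psiG C hc hmem s₁) (psiG C hc hmem s₂) := by
    intro s₁ s₂ h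
    exact h.map (psiG C hc hmem)
  have ha : ∀ s : SpecialLinearGroup (Fin 2) K, Commute (aEl C) (psiG C hc hmem s) :=
    fun s => aEl_comm C hc hmem hac s
  have hmemD : ∀ y ∈ DSub C hc hmem t, ∀ s' : SpecialLinearGroup (Fin 2) K,
      (∀ s ∈ Subgroup.centralizer ({t} : Set (SpecialLinearGroup (Fin 2) K)), Commute s s') →
      Commute y (psiG C hc hmem s') ∧ Commute y (aEl C) := by
    intro y hy s' hs'
    obtain ⟨s, hs, rfl | rfl⟩ := (hdm t y).mp hy
    · exact ⟨hpsi s s' (hs' s hs), (ha s).symm⟩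
    · exact ⟨Commute.mul_left (ha s') (hpsi s s' (hs' s hs)),
        Commute.mul_left (Commute.refl _) (ha s).symm⟩
  refine ⟨?_, ?_⟩
  · intro y₁ hy₁ y₂ hy₂
    obtain ⟨s₂, hs₂, rfl | rfl⟩ := (hdm t y₂).mp hy₂
    · exact (hmemD y₁ hy₁ s₂ (fun s hs => hscomm s hs s₂ hs₂)).1.eq
    · have h := hmemD y₁ hy₁ s₂ (fun s hs => hscomm s hs s₂ hs₂)
      exact (Commute.mul_right h.2 h.1).eq
  · intro y hy
    have ht : t ∈ Subgroup.centralizer ({t} : Set (SpecialLinearGroup (Fin 2) K)) := by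
      rw [Subgroup.mem_centralizer_iff]
      intro h hh
      rw [Set.mem_singleton_iff] at hh
      rw [hh]
    exact (hmemD y hy t (fun s hs => hscomm s hs t ht)).1.eq

example (C : Ctx K (3 ^ m)) (hK : Fintype.card K = 3 ^ (2 * m + 1))
    (hc : CommStmt (K := K)) (hmem : MemStmt C) (hac : ACommStmt C)
    (hdm : StDMem C hc hmem) (hT : StSL2Tor.{u}) : StDAb C hc hmem :=
  dAb C hK hc hmem hac hdm hT

end Cfsg.Agent.H12.RT
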