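import Mathlib
import Cfsg.Agent.H45.S8Defs0
import Cfsg.Agent.H68.S9Defs

/-!
# S1159 (team project, helper68): piece S9-EXSIX — an element of order 6 from an involution whose
centraliser has order divisible by 3.
-/

set_option autoImplicit false

namespace Cfsg.Agent.H12.S9

open Cfsg.Agent.H45.S8 Cfsg.Agent.H68.S9

universe u v

theorem exSix : StExSix.{u} := by
  intro G _ _ a ha1 haa h3
  have : Fact (Nat.Prime 3) := ⟨Nat.prime_three⟩
  have : Fact (Nat.Prime 2) := ⟨Nat.prime_two⟩
  obtain ⟨w, hw⟩ := exists_prime_orderOf_dvd_card' (G := ↥(Subgroup.centralizer ({a} : Set G))) 3 h3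
  have hw3 : orderOf (w : G) = 3 := by rw [Subgroup.orderOf_coe, hw]
  have ha2 : orderOf a = 2 := orderOf_eq_prime (by rw [pow_two, haa]) ha1
  have hcomm : Commute a (w : G) := by
    have := w.2
    rw [Subgroup.mem_centralizer_iff] at this
    exact this a rfl
  refine ⟨a * (w : G), ?_⟩
  rw [hcomm.orderOf_mul_eq_mul_orderOf_of_coprime (by rw [ha2, hw3]; decide), ha2, hw3]

example : StExSix.{u} =
    (∀ (G : Type u) [Group G] [Finite G] (a : G), a ≠ 1 → a * a = 1 →
    3 ∣ Nat.card ↥(Subgroup.centralizer ({a} : Set G)) → ∃ g : G, orderOf g = 6) :=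
  rfl

end Cfsg.Agent.H12.S9
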