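import Mathlib
import Cfsg.Agent.H45.S8Defs0
import Cfsg.Agent.H68.S9Defs

/-!
# S1159 (team project, helper68): piece S9-NINE — an element of order 9, from the number of
elements of order 3 of a subgroup `V` of order `q³`.
-/

set_option autoImplicit false

namespace Cfsg.Agent.H12.S9

open Cfsg.Agent.H45.S8 Cfsg.Agent.H68.S9

universe u v

theorem nine : StNine.{u} := by
  intro Γ _ V T _ f hf hVT hV h3 h9
  classical
  by_contra hno
  push Not at hno
  have key : ∀ u : ↥V, u ≠ 1 → orderOf u = 3 := by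
    intro u hu
    by_contra h3'
    have hgu : orderOf (⟨u.1, hVT u.2⟩ : ↥T) = orderOf u := by
      rw [← Subgroup.orderOf_coe (⟨u.1, hVT u.2⟩ : ↥T), ← Subgroup.orderOf_coe u]
    have hpow : u ^ (3 ^ (f * 3)) = 1 := by
      have h := pow_card_eq_one' (G := ↥V) (x := u)
      rw [hV, ← pow_mul] at h
      exact h
    have hg3 : Is3 (⟨u.1, hVT u.2⟩ : ↥T) := by
      refine ⟨f * 3, ?_⟩
      apply Subtype.ext
      have h := congrArg (fun x : ↥V => (x : Γ)) hpow
      simpa using h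
    have h99 := h9 _ hg3
    have hd : orderOf (⟨u.1, hVT u.2⟩ : ↥T) ∣ 3 ^ 2 := orderOf_dvd_of_pow_eq_one h99
    obtain ⟨k, hk, hk'⟩ := (Nat.dvd_prime_pow Nat.prime_three).1 hd
    have hu1 : orderOf u ≠ 1 := by
      rw [Ne, orderOf_eq_one_iff]
      exact hu
    interval_cases k
    · rw [hgu] at hk'
      exact hu1 (by simpa using hk')
    · rw [hgu] at hk'
      exact h3' (by simpa using hk')
    · exact hno _ (by rw [hk']; norm_num)
  have hsub : Subsingleton {u : ↥V // ¬ orderOf u = 3} := by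
    refine ⟨fun x y => ?_⟩
    apply Subtype.ext
    have hx : x.1 = 1 := by
      by_contra h
      exact x.2 (key _ h)
    have hy : y.1 = 1 := by
      by_contra h
      exact y.2 (key _ h)
    rw [hx, hy]
  have hle1 : Nat.card {u : ↥V // ¬ orderOf u = 3} ≤ 1 := Finite.card_le_one_iff_subsingleton.2 hsub
  have hcard : Nat.card ↥V = Nat.card {u : ↥V // orderOf u = 3} +
      Nat.card {u : ↥V // ¬ orderOf u = 3} := by
    rw [← Nat.card_sum]
    exact (Nat.card_congr (Equiv.sumCompl (fun u : ↥V => orderOf u = 3))).symm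
  have h3f : 1 < 3 ^ f := Nat.one_lt_pow (by omega) (by norm_num)
  have hlt : (3 ^ f) ^ 2 < (3 ^ f) ^ 3 := Nat.pow_lt_pow_right h3f (by norm_num)
  have hpos : 1 ≤ (3 ^ f) ^ 2 := Nat.one_le_pow _ _ (by omega)
  rw [hV, h3] at hcard
  omega

example : StNine.{u} =
    (∀ (Γ : Type u) [Group Γ] (V T : Subgroup Γ) [Finite ↥V] (f : ℕ), 1 ≤ f → V ≤ T →
    Nat.card ↥V = (3 ^ f) ^ 3 →
    Nat.card {u : ↥V // orderOf u = 3} = (3 ^ f) ^ 2 - 1 →
    (∀ g : ↥T, Is3 g → g ^ 9 = 1) → ∃ g : ↥T, orderOf g = 9) :=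
  rfl

end Cfsg.Agent.H12.S9
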