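import Mathlib
import Cfsg.Agent.H45.S8Defs0
import Cfsg.Agent.H68.S9Defs

/-!
# S1159 (team project, helper68): piece S9-UNIP9 — in characteristic 3, a 3-element of `GL_n`,
`n ≤ 9`, has order dividing 9.
-/

set_option autoImplicit false

namespace Cfsg.Agent.H12.S9

open Cfsg.Agent.H45.S8 Cfsg.Agent.H68.S9

universe u v

/-- A nilpotent square matrix over a field is killed by the power `card n`. -/
theorem nilp_pow_card {n : Type} [Fintype n] [DecidableEq n] {K : Type v} [Field K]
    (N : Matrix n n K) (hN : IsNilpotent N) : N ^ Fintype.card n = 0 := by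
  have h1 := Matrix.isNilpotent_charpoly_sub_pow_of_isNilpotent hN
  have h2 : N.charpoly = Polynomial.X ^ Fintype.card n := sub_eq_zero.1 h1.eq_zero
  have h3 := Matrix.aeval_self_charpoly N
  rw [h2] at h3
  simpa using h3

theorem unip9 : StUnip9.{v} := by
  intro n _ _ K _ _ hn Y hY
  obtain ⟨j, hj⟩ := hY
  rcases isEmpty_or_nonempty n with he | hne
  · exact Subsingleton.elim _ _
  have : Fact (Nat.Prime 3) := ⟨Nat.prime_three⟩
  set N : Matrix n n K := (Y : Matrix n n K) - 1 with hN
  have hYj : (Y : Matrix n n K) ^ 3 ^ j = 1 := by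
    have := congrArg (fun g : GL n K => (g : Matrix n n K)) hj
    simpa using this
  have hNj : N ^ 3 ^ j = 0 := by
    rw [hN, sub_pow_char_pow_of_commute 3 j (Commute.one_right _), hYj, one_pow, sub_self]
  have hnil : IsNilpotent N := ⟨3 ^ j, hNj⟩
  have hN9 : N ^ 9 = 0 := pow_eq_zero_of_le hn (nilp_pow_card N hnil)
  apply Units.ext
  rw [Units.val_pow_eq_pow_val, Units.val_one]
  have hYN : (Y : Matrix n n K) = N + 1 := by rw [hN, sub_add_cancel]
  rw [hYN]
  have h9 : (9 : ℕ) = 3 ^ 2 := by norm_num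
  rw [h9, add_pow_char_pow_of_commute 3 2 (Commute.one_right _), ← h9, hN9, one_pow, zero_add]

example : StUnip9.{v} =
    (∀ (n : Type) [Fintype n] [DecidableEq n] (K : Type v) [Field K] [CharP K 3],
    Fintype.card n ≤ 9 → ∀ Y : GL n K, Is3 Y → Y ^ 9 = 1) :=
  rfl

end Cfsg.Agent.H12.S9
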