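import Mathlib
import Cfsg.Agent.H45.S8Defs0
import Cfsg.Agent.H68.S9Defs
import Cfsg.Agent.H12.S9Unip9

/-!
# S1159 (team project, helper68): piece S9-PSL3 — in characteristic 3, a 3-element of `PSL₂(K)`
has order dividing 3.
-/

set_option autoImplicit false

namespace Cfsg.Agent.H12.S9

open Cfsg.Agent.H45.S8 Cfsg.Agent.H68.S9

universe u v

theorem psl3 : StPsl3.{v} := by
  intro K _ _ x hx
  obtain ⟨j, hj⟩ := hx
  obtain ⟨A, rfl⟩ := QuotientGroup.mk_surjective x
  have : Fact (Nat.Prime 3) := ⟨Nat.prime_three⟩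
  have hcen : A ^ 3 ^ j ∈ Subgroup.center (Matrix.SpecialLinearGroup (Fin 2) K) := by
    rw [← QuotientGroup.eq_one_iff]
    exact hj
  obtain ⟨c, hc, hcA⟩ := Matrix.SpecialLinearGroup.mem_center_iff.1 hcen
  have hc2 : c ^ 2 = 1 := by simpa using hc
  have hcj : c ^ 3 ^ j = c := by
    have h0 : (c - 1) * (c + 1) = 0 := by
      have : (c - 1) * (c + 1) = c ^ 2 - 1 := by ring
      rw [this, hc2, sub_self]
    rcases mul_eq_zero.1 h0 with h | h
    · rw [sub_eq_zero.1 h, one_pow]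
    · have hc' : c = -1 := eq_neg_of_add_eq_zero_left h
      rw [hc']
      exact Odd.neg_one_pow (Odd.pow (by decide))
  have hMj : (A : Matrix (Fin 2) (Fin 2) K) ^ 3 ^ j = Matrix.scalar (Fin 2) c := by
    rw [hcA, Matrix.SpecialLinearGroup.coe_pow]
  have hcomm : Commute (A : Matrix (Fin 2) (Fin 2) K) (Matrix.scalar (Fin 2) c) :=
    (Matrix.scalar_commute c (fun r => Commute.all _ _) _).symm
  have hBj : ((A : Matrix (Fin 2) (Fin 2) K) - Matrix.scalar (Fin 2) c) ^ 3 ^ j = 0 := by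
    rw [sub_pow_char_pow_of_commute 3 j hcomm, hMj, ← map_pow, hcj, sub_self]
  have hB2 : ((A : Matrix (Fin 2) (Fin 2) K) - Matrix.scalar (Fin 2) c) ^ 2 = 0 := by
    have h := nilp_pow_card _ ⟨3 ^ j, hBj⟩
    simpa using h
  have hB3 : ((A : Matrix (Fin 2) (Fin 2) K) - Matrix.scalar (Fin 2) c) ^ 3 = 0 := by
    rw [pow_succ, hB2, zero_mul]
  have hM3 : (A : Matrix (Fin 2) (Fin 2) K) ^ 3 = Matrix.scalar (Fin 2) (c ^ 3) := by
    have hMB : (A : Matrix (Fin 2) (Fin 2) K) =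
        ((A : Matrix (Fin 2) (Fin 2) K) - Matrix.scalar (Fin 2) c) + Matrix.scalar (Fin 2) c := by
      rw [sub_add_cancel]
    have hcommB : Commute ((A : Matrix (Fin 2) (Fin 2) K) - Matrix.scalar (Fin 2) c)
        (Matrix.scalar (Fin 2) c) :=
      (Matrix.scalar_commute c (fun r => Commute.all _ _) _).symm
    conv_lhs => rw [hMB]
    rw [add_pow_char_of_commute 3 hcommB, hB3, zero_add, map_pow]
  change (QuotientGroup.mk A : Matrix.SpecialLinearGroup (Fin 2) K ⧸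
    Subgroup.center (Matrix.SpecialLinearGroup (Fin 2) K)) ^ 3 = 1
  rw [← QuotientGroup.mk_pow, QuotientGroup.eq_one_iff, Matrix.SpecialLinearGroup.mem_center_iff]
  refine ⟨c ^ 3, ?_, ?_⟩
  · rw [Fintype.card_fin, ← pow_mul, mul_comm, pow_mul, hc2, one_pow]
  · rw [← hM3, Matrix.SpecialLinearGroup.coe_pow]

example : StPsl3.{v} =
    (∀ (K : Type v) [Field K] [CharP K 3] (x : Matrix.ProjectiveSpecialLinearGroup (Fin 2) K),
    Is3 x → x ^ 3 = 1) :=
  rfl

end Cfsg.Agent.H12.S9
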