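import Mathlib
import Cfsg.Agent.H12.Basic
import Cfsg.Agent.H1.Basic

/-!
# Minimal non-nilpotent groups (Schmidt's theorem) (helper12)
-/

set_option autoImplicit false
open Pointwise

namespace Cfsg.Agent.H12

universe u

variable {G : Type*} [Group G]

theorem isCoatom_conj_smul {M : Subgroup G} (hM : IsCoatom M) (g : G) :
    IsCoatom (MulAut.conj g • M) :=
  (OrderIso.isCoatom_iff (MulEquiv.mapSubgroup (MulAut.conj g)) M).mpr hM

/-- In a nilpotent subgroup `M`, a subgroup `P ≤ M` with `P ≤ [P, M]` is trivial. -/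
theorem eq_bot_of_le_commutator_of_isNilpotent {P M : Subgroup G} (hM : Group.IsNilpotent M)
    (hPM : P ≤ M) (h : P ≤ ⁅P, M⁆) : P = ⊥ := by
  obtain ⟨n, hn⟩ := (Subgroup.isNilpotent_iff_lowerCentralSeries M).mp hM
  have key : ∀ k, P ≤ M.lowerCentralSeries k := by
    intro k
    induction k with
    | zero => exact hPM
    | succ k ih =>
      rw [Subgroup.lowerCentralSeries_succ]
      exact h.trans (Subgroup.commutator_mono ih le_rfl)
  have := key n
  rw [hn] at this
  exact le_bot_iff.mp this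

/-- Normalizers grow in nilpotent subgroups. -/
theorem exists_mem_normalizer_not_mem_of_lt [Finite G] {D M : Subgroup G}
    (hM : Group.IsNilpotent M) (hDM : D < M) :
    ∃ x ∈ M, x ∈ Subgroup.normalizer (D : Set G) ∧ x ∉ D := by
  have h1 : D.subgroupOf M < ⊤ := by
    rw [lt_top_iff_ne_top]
    intro h
    rw [Subgroup.subgroupOf_eq_top] at h
    exact absurd h (not_le_of_gt hDM)
  have h2 := Group.normalizerCondition_of_isNilpotent (D.subgroupOf M) h1
  obtain ⟨y, hyN, hyD⟩ := SetLike.exists_of_lt h2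
  refine ⟨y, y.2, ?_, hyD⟩
  rw [← conj_smul_eq_iff_mem_normalizer]
  apply conj_smul_eq_of_ge
  rintro _ ⟨d, hd, rfl⟩
  show (y : G) * d * (y : G)⁻¹ ∈ D
  have := (Subgroup.mem_normalizer_iff.mp hyN ⟨d, hDM.le hd⟩).mp hd
  simpa [Subgroup.mem_subgroupOf] using this

/-- In a "simple" finite group all of whose proper subgroups are nilpotent, distinct maximal
subgroups intersect trivially. -/
theorem inf_eq_bot_of_coatoms_of_proper_nilpotent [Finite G]
    (hsimple : ∀ N : Subgroup G, N.Normal → N = ⊥ ∨ N = ⊤)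
    (hnil : ∀ H : Subgroup G, H ≠ ⊤ → Group.IsNilpotent H) :
    ∀ M₁ M₂ : Subgroup G, IsCoatom M₁ → IsCoatom M₂ → M₁ ≠ M₂ → M₁ ⊓ M₂ = ⊥ := by
  by_contra hcon
  push Not at hcon
  obtain ⟨A, B, hA, hB, hAB, hne⟩ := hcon
  obtain ⟨⟨M₁, M₂⟩, ⟨hM₁, hM₂, hM₁₂⟩, hmax⟩ := Set.exists_max_image
    {q : Subgroup G × Subgroup G | IsCoatom q.1 ∧ IsCoatom q.2 ∧ q.1 ≠ q.2}
    (fun q => Nat.card (q.1 ⊓ q.2 : Subgroup G)) (Set.toFinite _) ⟨(A, B), hA, hB, hAB⟩
  have key : ∀ M₁ M₂ : Subgroup G, IsCoatom M₁ → IsCoatom M₂ → M₁ ≠ M₂ →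
      (∀ q ∈ {q : Subgroup G × Subgroup G | IsCoatom q.1 ∧ IsCoatom q.2 ∧ q.1 ≠ q.2},
        Nat.card (q.1 ⊓ q.2 : Subgroup G) ≤ Nat.card (M₁ ⊓ M₂ : Subgroup G)) →
      ∀ M, IsCoatom M → Subgroup.normalizer ((M₁ ⊓ M₂ : Subgroup G) : Set G) ≤ M → M₁ = M := by
    intro M₁ M₂ hM₁ hM₂ hM₁₂ hmax M hM hNM
    by_contra hne'
    have hlt : M₁ ⊓ M₂ < M₁ := by
      refine lt_of_le_of_ne inf_le_left fun h => ?_
      have h1 : M₁ ≤ M₂ := inf_eq_left.mp h
      exact hM₁₂ (le_antisymm h1 (by
        by_contra h2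
        exact hM₂.1 (hM₁.2 M₂ (lt_of_le_of_ne h1 hM₁₂))))
    obtain ⟨x, hxM₁, hxN, hxD⟩ := exists_mem_normalizer_not_mem_of_lt (hnil M₁ hM₁.1) hlt
    have hlt2 : M₁ ⊓ M₂ < M₁ ⊓ M := by
      refine lt_of_le_of_ne (le_inf inf_le_left (Subgroup.le_normalizer.trans hNM)) fun h => ?_
      apply hxD
      rw [h]
      exact ⟨hxM₁, hNM hxN⟩
    have h3 := hmax (M₁, M) ⟨hM₁, hM, hne'⟩
    exact absurd h3 (not_le.mpr (Cfsg.Agent.H1.card_lt_card_of_lt hlt2))
  have hDne : M₁ ⊓ M₂ ≠ ⊥ := by
    intro h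
    have h1 := hmax (A, B) ⟨hA, hB, hAB⟩
    simp only at h1
    rw [h, Subgroup.card_bot] at h1
    exact hne ((Subgroup.card_le_one_iff_eq_bot _).mp h1)
  have hNtop : Subgroup.normalizer ((M₁ ⊓ M₂ : Subgroup G) : Set G) ≠ ⊤ := by
    intro h
    rcases hsimple _ (Subgroup.normalizer_eq_top_iff.mp h) with h1 | h1
    · exact hDne h1
    · exact hM₁.1 (top_le_iff.mp (h1 ▸ inf_le_left))
  rcases eq_top_or_exists_le_coatom (Subgroup.normalizer ((M₁ ⊓ M₂ : Subgroup G) : Set G))
    with h | ⟨M, hM, hNM⟩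
  · exact hNtop h
  · have e1 : M₁ = M := key M₁ M₂ hM₁ hM₂ hM₁₂ hmax M hM hNM
    have e2 : M₂ = M := by
      apply key M₂ M₁ hM₂ hM₁ hM₁₂.symm _ M hM
      · rw [inf_comm]; exact hNM
      · intro q hq; rw [inf_comm M₂]; exact hmax q hq
    exact hM₁₂ (e1.trans e2.symm)

/-- A nontrivial perfect finite group without proper nontrivial normal subgroups has a
non-nilpotent proper subgroup. -/
theorem false_of_simple_of_proper_nilpotent [Finite G] [Nontrivial G]
    (hsimple : ∀ N : Subgroup G, N.Normal → N = ⊥ ∨ N = ⊤)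
    (hnil : ∀ H : Subgroup G, H ≠ ⊤ → Group.IsNilpotent H) (hperf : commutator G = ⊤) :
    False := by
  have hcard : Nat.card G ≠ 1 := (Finite.one_lt_card (α := G)).ne'
  obtain ⟨p, hp, hpd⟩ := Nat.exists_prime_and_dvd hcard
  have : Fact p.Prime := ⟨hp⟩
  obtain ⟨P⟩ : Nonempty (Sylow p G) := inferInstance
  have hPbot : (P : Subgroup G) ≠ ⊥ := P.ne_bot_of_dvd_card hpd
  have hcomm_top : ⁅(⊤ : Subgroup G), (⊤ : Subgroup G)⁆ = ⊤ := by
    rw [← commutator_def]; exact hperf
  by_cases hPtop : (P : Subgroup G) = ⊤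
  · have hnilP : Group.IsNilpotent (P : Subgroup G) := P.isPGroup'.isNilpotent
    rw [hPtop] at hnilP
    have := eq_bot_of_le_commutator_of_isNilpotent hnilP le_rfl (le_of_eq hcomm_top.symm)
    exact top_ne_bot this
  · rcases eq_top_or_exists_le_coatom (P : Subgroup G) with h | ⟨M, hM, hPM⟩
    · exact hPtop h
    · have hMnil := hnil M hM.1
      have hTI := inf_eq_bot_of_coatoms_of_proper_nilpotent hsimple hnil
      have hNM : Subgroup.normalizer (M : Set G) = M := by
        by_contra hne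
        have hlt : M < Subgroup.normalizer (M : Set G) :=
          lt_of_le_of_ne Subgroup.le_normalizer (Ne.symm hne)
        have h1 := hM.2 _ hlt
        rcases hsimple M (Subgroup.normalizer_eq_top_iff.mp h1) with h2 | h2
        · exact hPbot (le_bot_iff.mp (h2 ▸ hPM))
        · exact hM.1 h2
      have hfoc : (P : Subgroup G) = (P : Subgroup G).focalSubgroup := by
        rw [← Subgroup.commutator_inf_eq_focalSubgroup, hperf, top_inf_eq]
      have hle : (P : Subgroup G).focalSubgroup ≤ ⁅(P : Subgroup G), M⁆ := by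
        rw [Subgroup.focalSubgroup_def, Subgroup.closure_le]
        rintro g ⟨hgP, x, hxP, u, rfl⟩
        by_cases hx1 : x = 1
        · subst hx1
          rw [commutatorElement_def]
          simp
        · have h1 : u * x⁻¹ * u⁻¹ ∈ (P : Subgroup G) := by
            have := (P : Subgroup G).mul_mem ((P : Subgroup G).inv_mem hxP) hgP
            rw [commutatorElement_def] at this
            have e : x⁻¹ * (x * u * x⁻¹ * u⁻¹) = u * x⁻¹ * u⁻¹ := by group
            rwa [e] at this
          have h2 : u * x⁻¹ * u⁻¹ ∈ MulAut.conj u • M :=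
            conj_mem_conj_smul (hPM ((P : Subgroup G).inv_mem hxP))
          have h3 : MulAut.conj u • M = M := by
            by_contra hne
            have h4 := hTI (MulAut.conj u • M) M (isCoatom_conj_smul hM u) hM hne
            have h5 : u * x⁻¹ * u⁻¹ ∈ MulAut.conj u • M ⊓ M := ⟨h2, hPM h1⟩
            rw [h4, Subgroup.mem_bot] at h5
            apply hx1
            have h6 : x⁻¹ = 1 := by
              have : x⁻¹ = u⁻¹ * (u * x⁻¹ * u⁻¹) * u := by group
              rw [this, h5]; group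
            exact inv_eq_one.mp h6
          have hu : u ∈ M := by
            have := conj_smul_eq_iff_mem_normalizer.mp h3
            rwa [hNM] at this
          exact Subgroup.commutator_mem_commutator hxP hu
      have hPle : (P : Subgroup G) ≤ ⁅(P : Subgroup G), M⁆ := by
        calc (P : Subgroup G) = (P : Subgroup G).focalSubgroup := hfoc
          _ ≤ _ := hle
      exact hPbot (eq_bot_of_le_commutator_of_isNilpotent hMnil hPM hPle)

/-- A nontrivial finite group all of whose proper subgroups are nilpotent is not perfect. -/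
theorem commutator_ne_top_of_proper_nilpotent {G : Type u} [Group G] [Finite G] [Nontrivial G]
    (hnil : ∀ H : Subgroup G, H ≠ ⊤ → Group.IsNilpotent H) : commutator G ≠ ⊤ := by
  intro hperf
  obtain ⟨N, -, hN⟩ := Set.Finite.exists_le_maximal
    (Set.toFinite {N : Subgroup G | N.Normal ∧ N ≠ ⊤}) (a := ⊥)
    ⟨Subgroup.normal_bot, bot_ne_top⟩
  obtain ⟨hNn, hNtop⟩ := hN.prop
  have := hNn
  have hsurj := QuotientGroup.mk'_surjective N
  have : Nontrivial (G ⧸ N) := by
    rw [QuotientGroup.nontrivial_iff]; exact hNtop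
  apply false_of_simple_of_proper_nilpotent (G := G ⧸ N)
  · intro K hK
    by_cases hKc : K.comap (QuotientGroup.mk' N) = ⊤
    · right
      rw [← Subgroup.map_comap_eq_self_of_surjective hsurj K, hKc,
        Subgroup.map_top_of_surjective _ hsurj]
    · left
      have h1 : K.comap (QuotientGroup.mk' N) ≤ N :=
        hN.le_of_ge ⟨hK.comap _, hKc⟩ (le_comap_mk' N K)
      rw [← Subgroup.map_comap_eq_self_of_surjective hsurj K, eq_bot_iff]
      calc (K.comap (QuotientGroup.mk' N)).map (QuotientGroup.mk' N)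
          ≤ N.map (QuotientGroup.mk' N) := Subgroup.map_mono h1
        _ = ⊥ := by rw [QuotientGroup.map_mk'_self]
  · intro K hK
    have hKc : K.comap (QuotientGroup.mk' N) ≠ ⊤ := by
      intro h
      apply hK
      rw [← Subgroup.map_comap_eq_self_of_surjective hsurj K, h,
        Subgroup.map_top_of_surjective _ hsurj]
    have := hnil _ hKc
    have h2 : Group.IsNilpotent ((K.comap (QuotientGroup.mk' N)).map (QuotientGroup.mk' N)) :=
      Group.nilpotent_of_surjective _
        ((QuotientGroup.mk' N).subgroupMap_surjective (K.comap (QuotientGroup.mk' N)))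
    rwa [Subgroup.map_comap_eq_self_of_surjective hsurj K] at h2
  · rw [commutator_def, ← Subgroup.map_top_of_surjective _ hsurj, ← Subgroup.map_commutator,
      ← commutator_def, hperf]

theorem exists_normal_prime_index_of_proper_nilpotent {G : Type u} [Group G] [Finite G]
    [Nontrivial G] (hnil : ∀ H : Subgroup G, H ≠ ⊤ → Group.IsNilpotent H) :
    ∃ (p : ℕ) (M : Subgroup G), p.Prime ∧ M.Normal ∧ M.index = p := by
  rcases eq_top_or_exists_le_coatom (commutator G) with h | ⟨M, hM, hle⟩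
  · exact absurd h (commutator_ne_top_of_proper_nilpotent hnil)
  · have : M.Normal := Subgroup.Normal.of_commutator_le G hle
    exact ⟨M.index, M, Cfsg.Agent.H1.index_prime_of_normal_coatom M hM, this, rfl⟩

/-- In a finite nilpotent group, a `p`-element and a `q`-element commute (`p ≠ q`). -/
theorem commute_of_isNilpotent_of_prime_pow {H : Type*} [Group H] [Finite H]
    [Group.IsNilpotent H] (p q : ℕ) [Fact p.Prime] [Fact q.Prime] (hpq : p ≠ q) (x y : H)
    (hx : ∃ k, x ^ p ^ k = 1) (hy : ∃ k, y ^ q ^ k = 1) : Commute x y := by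
  have hpg : ∀ (r : ℕ) (z : H), (∃ k, z ^ r ^ k = 1) → IsPGroup r (Subgroup.zpowers z) := by
    rintro r z ⟨k, hk⟩ g
    obtain ⟨n, hn⟩ := Subgroup.mem_zpowers_iff.mp g.2
    refine ⟨k, Subtype.ext ?_⟩
    rw [Subgroup.coe_pow, ← hn, ← zpow_natCast, ← zpow_mul, mul_comm, zpow_mul, zpow_natCast, hk,
      one_zpow]
    rfl
  obtain ⟨Sp, hSp⟩ := (hpg p x hx).exists_le_sylow
  obtain ⟨Sq, hSq⟩ := (hpg q y hy).exists_le_sylow
  have hdisj : Disjoint (Sp : Subgroup H) (Sq : Subgroup H) :=
    IsPGroup.disjoint_of_ne p q hpq _ _ Sp.isPGroup' Sq.isPGroup'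
  exact Subgroup.commute_of_normal_of_disjoint _ _ inferInstance inferInstance hdisj x y
    (hSp (Subgroup.mem_zpowers x)) (hSq (Subgroup.mem_zpowers y))

/-- **Schmidt's theorem** on minimal non-nilpotent groups. -/
theorem schmidt {G : Type u} [Group G] [Finite G] (hnn : ¬ Group.IsNilpotent G)
    (hnil : ∀ H : Subgroup G, H ≠ ⊤ → Group.IsNilpotent H) :
    ∃ p q : ℕ, p.Prime ∧ q.Prime ∧ p ≠ q ∧ ∃ (P : Sylow p G) (Q : Sylow q G),
      IsCyclic P ∧ (Q : Subgroup G).Normal ∧ (P : Subgroup G) ⊔ Q = ⊤ := by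
  have hnt : Nontrivial G := by
    by_contra h
    rw [not_nontrivial_iff_subsingleton] at h
    exact hnn inferInstance
  obtain ⟨p, M, hp, hMn, hMp⟩ := exists_normal_prime_index_of_proper_nilpotent hnil
  have : Fact p.Prime := ⟨hp⟩
  have hMtop : M ≠ ⊤ := by
    intro h
    rw [h, Subgroup.index_top] at hMp
    exact hp.one_lt.ne hMp
  have hMnil : Group.IsNilpotent M := hnil M hMtop
  -- Sylow `q`-subgroups for `q ≠ p` are normal
  have claimA : ∀ (q : ℕ) [Fact q.Prime], q ≠ p → ∀ Q : Sylow q G, (Q : Subgroup G).Normal := by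
    intro q hq hqp Q
    have hQM : (Q : Subgroup G) ≤ M := by
      have h1 : M.relIndex Q ∣ p := hMp ▸ Subgroup.relIndex_dvd_index_of_normal M Q
      have h2 : M.relIndex Q ∣ Nat.card Q := Subgroup.relIndex_dvd_card M Q
      obtain ⟨k, hk⟩ := IsPGroup.iff_card.mp Q.isPGroup'
      rw [hk] at h2
      have hcop : Nat.Coprime p (q ^ k) :=
        Nat.Coprime.pow_right _ ((Nat.coprime_primes hp hq.out).mpr (Ne.symm hqp))
      exact Subgroup.relIndex_eq_one.mp (Nat.eq_one_of_dvd_coprimes hcop h1 h2)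
    have hchar : ((Q.subtype hQM : Sylow q M) : Subgroup M).Characteristic :=
      Sylow.characteristic_of_normal _ inferInstance
    have e : ((Q.subtype hQM : Sylow q M) : Subgroup M).map M.subtype = Q := by
      rw [Sylow.coe_subtype, Subgroup.map_subgroupOf_eq_of_le hQM]
    rw [← e]
    exact ConjAct.normal_of_characteristic_of_normal
  obtain ⟨P⟩ : Nonempty (Sylow p G) := inferInstance
  -- `P` is not normal
  have claimB : ¬ (P : Subgroup G).Normal := by
    intro hPn
    apply hnn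
    refine (Group.isNilpotent_of_finite_tfae.out 0 3 rfl rfl).mpr ?_
    intro r hr R
    by_cases hrp : r = p
    · subst hrp
      obtain ⟨g, rfl⟩ := MulAction.exists_smul_eq G P R
      rw [Sylow.smul_eq_of_normal]
      exact hPn
    · exact claimA r hrp R
  -- some Sylow `q`-subgroup generates `G` together with `P`
  have claimC : ∃ q : ℕ, q.Prime ∧ q ≠ p ∧ ∃ Q : Sylow q G, (P : Subgroup G) ⊔ Q = ⊤ := by
    by_contra hcon
    push Not at hcon
    apply claimB
    rw [← Subgroup.normalizer_eq_top_iff, ← Subgroup.index_eq_one,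
      Nat.eq_one_iff_not_exists_prime_dvd]
    intro r hr hdvd
    have : Fact r.Prime := ⟨hr⟩
    by_cases hrp : r = p
    · subst hrp
      exact P.not_dvd_index (hdvd.trans (Subgroup.index_dvd_of_le Subgroup.le_normalizer))
    · obtain ⟨R⟩ : Nonempty (Sylow r G) := inferInstance
      have hR : (R : Subgroup G) ≤ Subgroup.normalizer ((P : Subgroup G) : Set G) := by
        have hne := hcon r hr hrp R
        have := hnil _ hne
        have hn : ((P.subtype le_sup_left :
            Sylow p ((P : Subgroup G) ⊔ R : Subgroup G)) :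
            Subgroup ((P : Subgroup G) ⊔ R : Subgroup G)).Normal := inferInstance
        rw [Sylow.coe_subtype] at hn
        exact le_sup_right.trans ((Subgroup.normal_subgroupOf_iff_le_normalizer le_sup_left).mp hn)
      exact R.not_dvd_index (hdvd.trans (Subgroup.index_dvd_of_le hR))
  obtain ⟨q, hq, hqp, Q, hPQ⟩ := claimC
  have : Fact q.Prime := ⟨hq⟩
  have hQn : (Q : Subgroup G).Normal := claimA q hqp Q
  have hdisj : Disjoint (P : Subgroup G) (Q : Subgroup G) :=
    IsPGroup.disjoint_of_ne p q (Ne.symm hqp) _ _ P.isPGroup' Q.isPGroup'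
  refine ⟨p, q, hp, hq, Ne.symm hqp, P, Q, ?_, hQn, hPQ⟩
  by_contra hcyc
  have hcomm : ∀ x ∈ (P : Subgroup G), ∀ y ∈ (Q : Subgroup G), Commute x y := by
    intro x hx y hy
    have hzx : Subgroup.zpowers x ⊔ (Q : Subgroup G) ≠ ⊤ := by
      intro htop
      apply hcyc
      have hPz : (P : Subgroup G) ≤ Subgroup.zpowers x := by
        intro z hz
        have hz' : z ∈ Subgroup.zpowers x ⊔ (Q : Subgroup G) := htop ▸ Subgroup.mem_top z
        obtain ⟨a, ha, b, hb, rfl⟩ := Subgroup.mem_sup_of_normal_right.mp hz'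
        have haP : a ∈ (P : Subgroup G) := (Subgroup.zpowers_le.mpr hx) ha
        have hb' : b ∈ (P : Subgroup G) := by
          have := (P : Subgroup G).mul_mem ((P : Subgroup G).inv_mem haP) hz
          simpa using this
        have hb1 : b = 1 := by
          have := hdisj.le_bot ⟨hb', hb⟩
          simpa using this
        rw [hb1, mul_one]; exact ha
      refine ⟨⟨⟨x, hx⟩, fun z => ?_⟩⟩
      obtain ⟨k, hk⟩ := Subgroup.mem_zpowers_iff.mp (hPz z.2)
      exact Subgroup.mem_zpowers_iff.mpr ⟨k, Subtype.ext (by simpa using hk)⟩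
    have := hnil _ hzx
    have hx' : x ∈ Subgroup.zpowers x ⊔ (Q : Subgroup G) :=
      le_sup_left (a := Subgroup.zpowers x) (Subgroup.mem_zpowers x)
    have hy' : y ∈ Subgroup.zpowers x ⊔ (Q : Subgroup G) := le_sup_right (a := Subgroup.zpowers x) hy
    have hc := commute_of_isNilpotent_of_prime_pow (H := ↥(Subgroup.zpowers x ⊔ (Q : Subgroup G)))
      p q (Ne.symm hqp) ⟨x, hx'⟩ ⟨y, hy'⟩
      (by
        obtain ⟨k, hk⟩ := P.isPGroup' ⟨x, hx⟩
        exact ⟨k, Subtype.ext (by simpa using congrArg Subtype.val hk)⟩)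
      (by
        obtain ⟨k, hk⟩ := Q.isPGroup' ⟨y, hy⟩
        exact ⟨k, Subtype.ext (by simpa using congrArg Subtype.val hk)⟩)
    exact congrArg Subtype.val hc
  apply claimB
  rw [← Subgroup.normalizer_eq_top_iff, eq_top_iff, ← hPQ]
  refine sup_le Subgroup.le_normalizer ?_
  intro y hy
  rw [← conj_smul_eq_iff_mem_normalizer]
  apply conj_smul_eq_of_ge
  rintro _ ⟨x, hx, rfl⟩
  show y * x * y⁻¹ ∈ (P : Subgroup G)
  rw [← (hcomm x hx y hy).eq, mul_assoc, mul_inv_cancel, mul_one]
  exact hx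

end Cfsg.Agent.H12
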