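import Mathlib
import Cfsg.Agent.H88.StUDefs
import Cfsg.Agent.H45.OAsm

/-!
# S2547-PSI (helper12): `SO_{2m+1}(q)` in helper88's antidiagonal model versus the isometry group
of `quadFormOdd m F`.
-/

set_option autoImplicit false

namespace Cfsg.Agent.H12.StO

open Matrix Cfsg.Agent.H88.Un Cfsg.Agent.H45.U

variable {F : Type*} [Field F] [Fintype F]

/-- positions: `e_i ↦ i`, `f_i ↦ 2m - i`, the anisotropic vector `↦ m`. -/
def epos (m : ℕ) : Fin m ⊕ (Fin m ⊕ Fin 1) → Fin (2 * m + 1)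
  | Sum.inl i => ⟨i.val, by have := i.2; omega⟩
  | Sum.inr (Sum.inl i) => ⟨2 * m - i.val, by omega⟩
  | Sum.inr (Sum.inr _) => ⟨m, by omega⟩

/-- inverse of `epos`. -/
def einv (m : ℕ) (a : Fin (2 * m + 1)) : Fin m ⊕ (Fin m ⊕ Fin 1) :=
  if h : a.val < m then Sum.inl ⟨a.val, h⟩
  else if h' : a.val = m then Sum.inr (Sum.inr 0)
  else Sum.inr (Sum.inl ⟨2 * m - a.val, by have := a.2; omega⟩)

/-- the reindexing. -/
def eEquiv (m : ℕ) : Fin m ⊕ (Fin m ⊕ Fin 1) ≃ Fin (2 * m + 1) where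
  toFun := epos m
  invFun := einv m
  left_inv := by
    rintro (i | i | i)
    · have hi := i.2
      show einv m ⟨i.val, _⟩ = _
      unfold einv
      rw [dif_pos hi]
    · have hi := i.2
      show einv m ⟨2 * m - i.val, _⟩ = _
      unfold einv
      rw [dif_neg (show ¬ (2 * m - i.val < m) by omega),
        dif_neg (show ¬ (2 * m - i.val = m) by omega)]
      congr 2
      apply Fin.ext
      show 2 * m - (2 * m - i.val) = i.val
      omega
    · show einv m ⟨m, _⟩ = _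
      unfold einv
      rw [dif_neg (lt_irrefl m), dif_pos rfl]
      congr 2
      exact Subsingleton.elim _ _
  right_inv := by
    intro a
    have := a.2
    unfold einv
    split_ifs with h1 h2
    · rfl
    · apply Fin.ext
      show m = a.val
      omega
    · apply Fin.ext
      show 2 * m - (2 * m - a.val) = a.val
      omega

theorem eEquiv_inl (m : ℕ) (i : Fin m) : ((eEquiv m (Sum.inl i)) : ℕ) = i.val := rfl
theorem eEquiv_inrl (m : ℕ) (i : Fin m) : ((eEquiv m (Sum.inr (Sum.inl i))) : ℕ) = 2 * m - i.val :=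
  rfl
theorem eEquiv_inrr (m : ℕ) (l : Fin 1) : ((eEquiv m (Sum.inr (Sum.inr l))) : ℕ) = m := rfl

/-- the Gram matrix of `hH` is the reindexed antidiagonal matrix. -/
theorem Hm_eq (m : ℕ) :
    (Hm : Matrix (Fin m ⊕ (Fin m ⊕ Fin 1)) (Fin m ⊕ (Fin m ⊕ Fin 1)) F) =
      (Jm (2 * m + 1) F).submatrix (eEquiv m) (eEquiv m) := by
  ext s s'
  rw [Matrix.submatrix_apply, Jm_apply]
  have hrev : ∀ a : Fin (2 * m + 1), (a.rev : ℕ) = 2 * m - a.val := fun a => by
    rw [Fin.val_rev]; omega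
  rcases s with i | i | i <;> rcases s' with j | j | j
  · have hi := i.2; have hj := j.2
    rw [if_neg (fun h => by
      have := congrArg Fin.val h
      rw [hrev, eEquiv_inl, eEquiv_inl] at this
      omega)]
    simp [Hm, blk3]
  · have hi := i.2; have hj := j.2
    by_cases hij : i = j
    · subst hij
      rw [if_pos (by
        apply Fin.ext
        rw [hrev, eEquiv_inl, eEquiv_inrl])]
      simp [Hm, blk3]
    · rw [if_neg (fun h => by
        have := congrArg Fin.val h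
        rw [hrev, eEquiv_inl, eEquiv_inrl] at this
        exact hij (Fin.ext (by omega)))]
      simp [Hm, blk3, hij]
  · have hi := i.2
    rw [if_neg (fun h => by
      have := congrArg Fin.val h
      rw [hrev, eEquiv_inl, eEquiv_inrr] at this
      omega)]
    simp [Hm, blk3]
  · have hi := i.2; have hj := j.2
    by_cases hij : i = j
    · subst hij
      rw [if_pos (by
        apply Fin.ext
        rw [hrev, eEquiv_inl, eEquiv_inrl]
        omega)]
      simp [Hm, blk3]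
    · rw [if_neg (fun h => by
        have := congrArg Fin.val h
        rw [hrev, eEquiv_inl, eEquiv_inrl] at this
        exact hij (Fin.ext (by omega)))]
      simp [Hm, blk3, hij]
  · have hi := i.2; have hj := j.2
    rw [if_neg (fun h => by
      have := congrArg Fin.val h
      rw [hrev, eEquiv_inrl, eEquiv_inrl] at this
      omega)]
    simp [Hm, blk3]
  · have hi := i.2
    rw [if_neg (fun h => by
      have := congrArg Fin.val h
      rw [hrev, eEquiv_inrl, eEquiv_inrr] at this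
      omega)]
    simp [Hm, blk3]
  · have hj := j.2
    rw [if_neg (fun h => by
      have := congrArg Fin.val h
      rw [hrev, eEquiv_inrr, eEquiv_inl] at this
      omega)]
    simp [Hm, blk3]
  · have hj := j.2
    rw [if_neg (fun h => by
      have := congrArg Fin.val h
      rw [hrev, eEquiv_inrr, eEquiv_inrl] at this
      omega)]
    simp [Hm, blk3]
  · rw [if_pos (by
      apply Fin.ext
      rw [hrev, eEquiv_inrr, eEquiv_inrr]
      omega)]
    have : i = j := Subsingleton.elim _ _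
    simp [Hm, blk3, this]

/-- the identity is an involution. -/
instance invol_id : Invol (RingHom.id F) := ⟨fun _ => rfl⟩

theorem gram_of_ug (m : ℕ) (g : UG (2 * m + 1) (RingHom.id F)) :
    g.1.1ᵀ * Jm (2 * m + 1) F * g.1.1 = Jm (2 * m + 1) F := by
  have h := adj_mul_self g
  rw [adj_eq] at h
  have hct : Cfsg.Agent.H88.Un.ct (RingHom.id F) g.1.1 = g.1.1ᵀ := by
    ext i j; rfl
  rw [hct] at h
  calc g.1.1ᵀ * Jm (2 * m + 1) F * g.1.1
      = (Jm (2 * m + 1) F * Jm (2 * m + 1) F) * (g.1.1ᵀ * Jm (2 * m + 1) F * g.1.1) := by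
        rw [Jm_mul_Jm, Matrix.one_mul]
    _ = Jm (2 * m + 1) F * (Jm (2 * m + 1) F * g.1.1ᵀ * Jm (2 * m + 1) F * g.1.1) := by
        simp only [Matrix.mul_assoc]
    _ = Jm (2 * m + 1) F := by rw [h, Matrix.mul_one]

/-- the reindexing homomorphism onto the hyperbolic-block model. -/
noncomputable def eHom (m : ℕ) :
    ↥(UG (2 * m + 1) (RingHom.id F)) →* ↥(UH (RingHom.id F) (Fin m) (Fin 1)) where
  toFun g := mkUH (RingHom.id F) (g.1.1.submatrix (eEquiv m) (eEquiv m))
    (by rw [Matrix.det_submatrix_equiv_self]; exact g.1.2)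
    (by
      have hct : Cfsg.Agent.H45.U.ct (RingHom.id F) (g.1.1.submatrix (eEquiv m) (eEquiv m)) =
          (g.1.1ᵀ).submatrix (eEquiv m) (eEquiv m) := by
        ext i j; rfl
      rw [hct, Hm_eq, Matrix.submatrix_mul_equiv, Matrix.submatrix_mul_equiv, gram_of_ug])
  map_one' := UH_ext (by
    show (1 : Matrix (Fin (2 * m + 1)) (Fin (2 * m + 1)) F).submatrix _ _ = 1
    exact Matrix.submatrix_one_equiv _)
  map_mul' g h := UH_ext (by
    show (g.1.1 * h.1.1).submatrix _ _ = g.1.1.submatrix _ _ * h.1.1.submatrix _ _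
    rw [Matrix.submatrix_mul_equiv])

theorem eHom_val (m : ℕ) (g : UG (2 * m + 1) (RingHom.id F)) :
    (eHom m g).1.1 = g.1.1.submatrix (eEquiv m) (eEquiv m) := rfl

theorem eHom_injective (m : ℕ) : Function.Injective (eHom (F := F) m) := by
  intro g g' h
  apply ext_val
  have h1 : g.1.1.submatrix (eEquiv m) (eEquiv m) = g'.1.1.submatrix (eEquiv m) (eEquiv m) := by
    rw [← eHom_val, ← eHom_val, h]
  ext a b
  have := congrFun (congrFun h1 ((eEquiv m).symm a)) ((eEquiv m).symm b)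
  simpa using this

omit [Fintype F] in
theorem dot_mulVec_single {ι : Type*} [Fintype ι] [DecidableEq ι] (A M : Matrix ι ι F)
    (s s' : ι) :
    (fun a => (M *ᵥ Pi.single s 1) a) ⬝ᵥ (A *ᵥ (M *ᵥ Pi.single s' 1)) = (Mᵀ * A * M) s s' := by
  have hcol : ∀ j : ι, M *ᵥ Pi.single j (1 : F) = fun a => M a j := by
    intro j
    funext a
    simp [Matrix.mulVec, dotProduct, Pi.single_apply]
  rw [hcol, hcol]
  simp only [dotProduct, Matrix.mulVec, Matrix.mul_apply, Matrix.transpose_apply,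
    Finset.mul_sum, Finset.sum_mul]
  rw [Finset.sum_comm]
  exact Finset.sum_congr rfl fun x _ => Finset.sum_congr rfl fun y _ => by ring

omit [Fintype F] in
theorem gram_of_uh (m : ℕ) (h : UH (RingHom.id F) (Fin m) (Fin 1)) :
    h.1.1ᵀ * (Hm : Matrix (Fin m ⊕ (Fin m ⊕ Fin 1)) (Fin m ⊕ (Fin m ⊕ Fin 1)) F) * h.1.1 =
      (Hm : Matrix (Fin m ⊕ (Fin m ⊕ Fin 1)) (Fin m ⊕ (Fin m ⊕ Fin 1)) F) := by
  ext s s'
  have key := h.2 (Pi.single s' 1) (Pi.single s 1)
  rw [hH_eq, hH_eq] at key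
  simp only [RingHom.id_apply] at key
  rw [← dot_mulVec_single]
  have e2 := dot_mulVec_single (F := F)
    (Hm : Matrix (Fin m ⊕ (Fin m ⊕ Fin 1)) (Fin m ⊕ (Fin m ⊕ Fin 1)) F) 1 s s'
  simp only [Matrix.one_mulVec, Matrix.transpose_one, Matrix.one_mul, Matrix.mul_one] at e2
  rw [← e2]
  exact key

theorem eHom_surjective (m : ℕ) : Function.Surjective (eHom (F := F) m) := by
  intro h
  have hJ : (Jm (2 * m + 1) F) = (Hm : Matrix (Fin m ⊕ (Fin m ⊕ Fin 1))
      (Fin m ⊕ (Fin m ⊕ Fin 1)) F).submatrix (eEquiv m).symm (eEquiv m).symm := by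
    rw [Hm_eq]
    ext a b
    simp
  set N : Matrix (Fin (2 * m + 1)) (Fin (2 * m + 1)) F :=
    h.1.1.submatrix (eEquiv m).symm (eEquiv m).symm with hN
  have hgram : Nᵀ * Jm (2 * m + 1) F * N = Jm (2 * m + 1) F := by
    have hNt : Nᵀ = (h.1.1ᵀ).submatrix (eEquiv m).symm (eEquiv m).symm := by
      ext i j; rfl
    rw [hNt, hJ, hN, Matrix.submatrix_mul_equiv, Matrix.submatrix_mul_equiv, gram_of_uh]
  have hdet : N.det = 1 := by
    rw [hN, Matrix.det_submatrix_equiv_self]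
    exact h.1.2
  have hmem : (⟨N, hdet⟩ : Matrix.SpecialLinearGroup (Fin (2 * m + 1)) F) ∈
      UG (2 * m + 1) (RingHom.id F) := by
    show adj (RingHom.id F) N * N = 1
    rw [adj_eq]
    have hct : Cfsg.Agent.H88.Un.ct (RingHom.id F) N = Nᵀ := by
      ext i j; rfl
    rw [hct, Matrix.mul_assoc, Matrix.mul_assoc, ← Matrix.mul_assoc Nᵀ, hgram, Jm_mul_Jm]
  refine ⟨⟨⟨N, hdet⟩, hmem⟩, ?_⟩
  apply UH_ext
  rw [eHom_val]
  show N.submatrix _ _ = _
  rw [hN]
  ext a b
  simp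

/-- **S2547-PSI.** -/
theorem exists_psi (h2 : (2 : F) ≠ 0) (m : ℕ) (hm : 1 ≤ m) :
    ∃ (Ψ : ↥(UG (2 * m + 1) (RingHom.id F)) →* ↥(Cfsg.isometryGroup F (Cfsg.quadFormOdd m F)))
      (t₀ : ↥(UG (2 * m + 1) (RingHom.id F))),
      Function.Injective Ψ ∧
      commutator ↥(Cfsg.isometryGroup F (Cfsg.quadFormOdd m F)) ≤ Ψ.range ∧
      (∃ d : Fin (2 * m + 1) → F, t₀.1.1 = Matrix.diagonal d) ∧
      (∀ g, Ψ g ∈ commutator ↥(Cfsg.isometryGroup F (Cfsg.quadFormOdd m F)) ∨
        Ψ (g * t₀) ∈ commutator ↥(Cfsg.isometryGroup F (Cfsg.quadFormOdd m F))) ∧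
      (∀ g, Odd (orderOf g) → Ψ g ∈ commutator ↥(Cfsg.isometryGroup F (Cfsg.quadFormOdd m F))) := by
  classical
  obtain ⟨Φ, P, hP, hQP, hΦ, hdet, hsurj⟩ := Cfsg.Agent.H67.O.o_iso (F := F) h2 m
  have hσ : ∀ a : F, (RingHom.id F) ((RingHom.id F) a) = a := fun _ => rfl
  have hQnd := Cfsg.Agent.H49.QOdd_nondeg (F := F) m h2
  have hmem : ∀ s : Cfsg.Agent.H45.O.OG m F, s ∈ commutator (Cfsg.Agent.H45.O.OG m F) ↔
      Cfsg.Agent.H49.spinSign (Cfsg.Agent.H49.QOdd m F) s = 1 ∧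
        (Cfsg.Agent.H45.O.omat s).det = 1 :=
    fun s => Cfsg.Agent.H49.mem_commutator_iff_spinSign_det (Cfsg.Agent.H49.QOdd m F) h2 hQnd s
  have hsq : ∀ s : Cfsg.Agent.H45.O.OG m F, s * s ∈ commutator (Cfsg.Agent.H45.O.OG m F) :=
    fun s => Cfsg.Agent.H49.sq_mem_commutator
      (Cfsg.Agent.H49.reflSet (Cfsg.Agent.H49.QOdd m F))
      (Cfsg.Agent.H49.reflSet_invol (Cfsg.Agent.H49.QOdd m F))
      (Cfsg.Agent.H49.closure_reflSet_eq_top (Cfsg.Agent.H49.QOdd m F) h2 hQnd) s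
  have hΦinj : Function.Injective Φ := by
    intro g g' h
    apply UH_ext
    apply Matrix.mulVec_injective
    funext u
    apply P.injective
    rw [← hΦ, ← hΦ, h]
  -- the torus element
  obtain ⟨lam, hlam⟩ : ∃ a : F, ¬ IsSquare a := by
    apply FiniteField.exists_nonsquare
    intro h
    have : ((2 : ℕ) : F) = 0 := by
      rw [← h]; exact CharP.cast_eq_zero F (ringChar F)
    exact h2 (by exact_mod_cast this)
  have hlam0 : lam ≠ 0 := fun h => hlam (by rw [h]; exact ⟨0, by simp⟩)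
  set i₀ : Fin m := ⟨0, hm⟩ with hi₀
  set b : Fin m → F := Function.update (fun _ => (1 : F)) i₀ lam with hb
  set b' : Fin m → F := Function.update (fun _ => (1 : F)) i₀ lam⁻¹ with hb'
  have hbb' : ∀ i, b i * b' i = 1 := by
    intro i
    by_cases hi : i = i₀
    · rw [hb, hb', hi, Function.update_self, Function.update_self, mul_inv_cancel₀ hlam0]
    · rw [hb, hb', Function.update_of_ne hi, Function.update_of_ne hi, mul_one]
  set B₀ : Matrix (Fin m) (Fin m) F := Matrix.diagonal b with hB₀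
  set B₀' : Matrix (Fin m) (Fin m) F := Matrix.diagonal b' with hB₀'
  have hB : B₀ * B₀' = 1 := by
    rw [hB₀, hB₀', Matrix.diagonal_mul_diagonal, ← Matrix.diagonal_one]
    congr 1
    funext i
    exact hbb' i
  have hB' : B₀' * B₀ = 1 := by
    rw [hB₀, hB₀', Matrix.diagonal_mul_diagonal, ← Matrix.diagonal_one]
    congr 1
    funext i
    rw [mul_comm]; exact hbb' i
  have hns : ¬ IsSquare B₀.det := by
    rw [hB₀, Matrix.det_diagonal, hb, Finset.prod_update_of_mem (Finset.mem_univ _)]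
    simpa using hlam
  have hdeta₀ : (dU (RingHom.id F) B₀ B₀' (1 : Matrix (Fin 1) (Fin 1) F)).det = 1 := by
    rw [det_dU, Matrix.det_one, mul_one, RingHom.id_apply, ← Matrix.det_mul, hB, Matrix.det_one]
  obtain ⟨a₀, ha₀⟩ : ∃ a₀ : ↥(UH (RingHom.id F) (Fin m) (Fin 1)),
      a₀.1.1 = dU (RingHom.id F) B₀ B₀' 1 :=
    ⟨Cfsg.Agent.H51.U.mkU _ _ hdeta₀ (Cfsg.Agent.H51.U.dU_gram _ hσ B₀ B₀' 1 hB'
      (by rw [ct_one, mul_one])), rfl⟩
  have hΦa₀ : Φ a₀ ∉ commutator (Cfsg.Agent.H45.O.OG m F) := by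
    apply Cfsg.Agent.H20.O.o_levi_not_mem h2 m B₀ B₀' hB hB' hns
    intro v
    obtain ⟨u, rfl⟩ := P.surjective v
    obtain ⟨x, y, z, rfl⟩ : ∃ x y z, u = tri x y z := ⟨_, _, _, tri_surj u⟩
    rw [hΦ, ha₀]
    unfold dU
    rw [blk3_mulVec, hP, hP]
    simp only [Matrix.zero_mulVec, add_zero, zero_add, Matrix.one_mulVec, Cfsg.Agent.H45.O.ct_id]
    show _ = Sum.elim (fun _ => z 0) (Sum.elim (B₀ *ᵥ x) (B₀'ᵀ *ᵥ ((2 : F) • y)))
    rw [Matrix.mulVec_smul]
  have hspin_a₀ : Cfsg.Agent.H49.spinSign (Cfsg.Agent.H49.QOdd m F) (Φ a₀) = -1 := by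
    rcases Int.units_eq_one_or (Cfsg.Agent.H49.spinSign (Cfsg.Agent.H49.QOdd m F) (Φ a₀))
      with h | h
    · exact absurd ((hmem _).2 ⟨h, hdet a₀⟩) hΦa₀
    · exact h
  obtain ⟨t₀, ht₀⟩ := eHom_surjective (F := F) m a₀
  refine ⟨Φ.comp (eHom m), t₀, hΦinj.comp (eHom_injective m), ?_, ?_, ?_, ?_⟩
  · intro s hs
    obtain ⟨g, hg⟩ := hsurj s ((hmem s).1 hs).2
    obtain ⟨g', hg'⟩ := eHom_surjective (F := F) m g
    exact ⟨g', by rw [MonoidHom.comp_apply, hg', hg]⟩
  · -- `t₀` is diagonal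
    refine ⟨fun a => Sum.elim b (Sum.elim b' (fun _ => 1)) ((eEquiv m).symm a), ?_⟩
    have h1 : t₀.1.1.submatrix (eEquiv m) (eEquiv m) = dU (RingHom.id F) B₀ B₀' 1 := by
      rw [← eHom_val, ht₀, ha₀]
    have h3 : dU (RingHom.id F) B₀ B₀' (1 : Matrix (Fin 1) (Fin 1) F) =
        Matrix.diagonal (Sum.elim b (Sum.elim b' (fun _ => 1))) := by
      ext (i | i | i) (j | j | j) <;>
        simp [dU, blk3, hB₀, hB₀', Cfsg.Agent.H45.U.ct_apply, Matrix.diagonal_apply,
          Matrix.one_apply, eq_comm]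
      all_goals (by_cases h : i = j <;> simp [h])
    ext x y
    have := congrFun (congrFun h1 ((eEquiv m).symm x)) ((eEquiv m).symm y)
    rw [Matrix.submatrix_apply, Equiv.apply_symm_apply, Equiv.apply_symm_apply, h3] at this
    rw [this, Matrix.diagonal_apply, Matrix.diagonal_apply]
    by_cases hxy : x = y
    · rw [if_pos hxy, if_pos (by rw [hxy])]
    · rw [if_neg hxy, if_neg (fun h => hxy ((eEquiv m).symm.injective h))]
  · intro g
    have hdg : (Cfsg.Agent.H45.O.omat (Φ (eHom m g))).det = 1 := hdet _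
    rcases Int.units_eq_one_or (Cfsg.Agent.H49.spinSign (Cfsg.Agent.H49.QOdd m F)
      (Φ (eHom m g))) with h | h
    · left
      exact (hmem _).2 ⟨h, hdg⟩
    · right
      show Φ (eHom m (g * t₀)) ∈ _
      rw [map_mul, map_mul, ht₀]
      refine (hmem _).2 ⟨?_, ?_⟩
      · have h' := (Cfsg.Agent.H49.spinSign (Cfsg.Agent.H49.QOdd m F)).map_mul
          (Φ (eHom m g)) (Φ a₀)
        rw [h, hspin_a₀] at h'
        exact h'.trans (by decide)
      · have := hdet (eHom m g * a₀)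
        rwa [map_mul] at this
  · intro g hg
    obtain ⟨k, hk⟩ := hg
    have hgk : g = (g * g) ^ (k + 1) := by
      rw [← pow_two, ← pow_mul]
      have : 2 * (k + 1) = orderOf g + 1 := by omega
      rw [this, pow_succ, pow_orderOf_eq_one, one_mul]
    rw [hgk, map_pow, map_mul]
    exact Subgroup.pow_mem _ (hsq _) _

end Cfsg.Agent.H12.StO
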