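import Cfsg.Agent.H12.StO2
import Cfsg.Agent.H12.StOPsi
import Cfsg.Agent.H88.StUF
import Cfsg.Agent.H80.StUSyl
import Cfsg.Agent.H14.StUW

/-!
helper12: `S2547`, the Steinberg character of `PΩ_{2m+1}(F)` (`#F` odd): the monomial element of
the middle node for `φ = id` (the last hypothesis of helper88's `ug_nodes`), and the assembly.
-/

set_option autoImplicit false

namespace Cfsg.Agent.H12.StO

open Matrix Cfsg.Agent.H88.Un Cfsg.Agent.H88.StU

variable {n : ℕ} {F : Type*} [Field F]

/-- The monomial matrix of the middle node: swap `p` and `p.rev`, negate `m`. -/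
def nMat (p m : Fin n) : Matrix (Fin n) (Fin n) F :=
  Matrix.diagonal (fun c => if c = m then (-1 : F) else 1) *
    (Equiv.swap p p.rev).permMatrix F

theorem nMat_apply (p m c j : Fin n) :
    (nMat p m : Matrix (Fin n) (Fin n) F) c j =
      if j = Equiv.swap p p.rev c then (if c = m then (-1 : F) else 1) else 0 := by
  rw [nMat, Matrix.diagonal_mul, Equiv.Perm.permMatrix, PEquiv.toMatrix_apply]
  simp only [Equiv.toPEquiv_apply, Option.mem_def, Option.some.injEq]
  by_cases h : j = Equiv.swap p p.rev c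
  · rw [if_pos h, if_pos h.symm, mul_one]
  · rw [if_neg h, if_neg (fun e : Equiv.swap p p.rev c = j => h e.symm), mul_zero]

theorem nMat_mulVec (p m : Fin n) (v : Fin n → F) (c : Fin n) :
    ((nMat p m : Matrix (Fin n) (Fin n) F) *ᵥ v) c =
      (if c = m then (-1 : F) else 1) * v (Equiv.swap p p.rev c) := by
  rw [Matrix.mulVec, dotProduct]
  rw [Finset.sum_eq_single (Equiv.swap p p.rev c)]
  · rw [nMat_apply, if_pos rfl]
  · intro j _ hj
    rw [nMat_apply, if_neg hj, zero_mul]
  · intro h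
    exact absurd (Finset.mem_univ _) h

theorem nMat_det (p m : Fin n) (hp : p ≠ p.rev) :
    (nMat p m : Matrix (Fin n) (Fin n) F).det = 1 := by
  rw [nMat, Matrix.det_mul, Matrix.det_diagonal, Matrix.det_permutation,
    Equiv.Perm.sign_swap hp, Finset.prod_ite_eq' Finset.univ m (fun _ => (-1 : F))]
  simp

theorem swap_rev (p c : Fin n) :
    Equiv.swap p p.rev c.rev = (Equiv.swap p p.rev c).rev := by
  by_cases h1 : c = p
  · rw [h1, Equiv.swap_apply_right, Equiv.swap_apply_left, Fin.rev_rev]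
  · by_cases h2 : c = p.rev
    · rw [h2, Fin.rev_rev, Equiv.swap_apply_left, Equiv.swap_apply_right]
    · rw [Equiv.swap_apply_of_ne_of_ne h1 h2, Equiv.swap_apply_of_ne_of_ne]
      · intro e
        apply h2
        rw [← e, Fin.rev_rev]
      · intro e
        exact h1 (Fin.rev_injective e)

theorem nMat_adj (p m : Fin n) (hm : m.rev = m) :
    adj (RingHom.id F) (nMat p m : Matrix (Fin n) (Fin n) F) * nMat p m = 1 := by
  ext i j
  rw [Matrix.mul_apply, Finset.sum_eq_single (Equiv.swap p p.rev j)]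
  · rw [adj_apply, nMat_apply, nMat_apply, RingHom.id_apply, swap_rev, Equiv.swap_apply_self,
      if_pos rfl, Matrix.one_apply]
    by_cases h : i = j
    · rw [if_pos h, if_pos (by rw [h])]
      by_cases h' : Equiv.swap p p.rev j = m
      · rw [if_pos h', if_pos (by rw [h', hm])]
        ring
      · rw [if_neg h', if_neg (fun e => h' (by rw [← hm, ← e, Fin.rev_rev])), mul_one]
    · rw [if_neg h, if_neg (fun e => h (Fin.rev_injective e)), zero_mul]
  · intro k _ hk
    rw [nMat_apply p m k j, if_neg, mul_zero]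
    intro e
    apply hk
    rw [e, Equiv.swap_apply_self]
  · intro h
    exact absurd (Finset.mem_univ _) h


/-- The monomial element of the middle node, for `φ = id`. -/
theorem hN3_id [Fintype F] (p m : Fin n) (hm : m.rev = m) (hpm : p.val + 1 = m.val) :
    ∃ (N : UG n (RingHom.id F)) (b : F), b ≠ 0 ∧
      ∀ (v : Fin n → F) (c : Fin n), (N.1.1 *ᵥ v) c =
        if c = p then b * v p.rev else if c = m then -((RingHom.id F) b / b) * v m
        else if c = p.rev then (1 / (RingHom.id F) b) * v p else v c := by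
  have hpm' : p ≠ m := by
    intro e
    rw [e] at hpm
    omega
  have hpr : p ≠ p.rev := by
    intro e
    have h1 : p.rev.val = p.val := by rw [← e]
    have h2 : m.rev.val = m.val := by rw [hm]
    rw [Fin.val_rev] at h1 h2
    omega
  have hprm : p.rev ≠ m := by
    intro e
    apply hpm'
    rw [← hm, ← e, Fin.rev_rev]
  refine ⟨⟨⟨nMat p m, nMat_det p m hpr⟩, nMat_adj p m hm⟩, 1, one_ne_zero, ?_⟩
  intro v c
  show ((nMat p m : Matrix (Fin n) (Fin n) F) *ᵥ v) c = _
  rw [nMat_mulVec, RingHom.id_apply]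
  by_cases h1 : c = p
  · rw [if_pos h1, h1, if_neg hpm', Equiv.swap_apply_left]
  · rw [if_neg h1]
    by_cases h2 : c = m
    · rw [if_pos h2, if_pos h2, h2, Equiv.swap_apply_of_ne_of_ne hpm'.symm hprm.symm]
      ring
    · rw [if_neg h2, if_neg h2]
      by_cases h3 : c = p.rev
      · rw [if_pos h3, h3, Equiv.swap_apply_right]
        ring
      · rw [if_neg h3, Equiv.swap_apply_of_ne_of_ne h1 h3, one_mul]

open Cfsg.Agent.H78.StSL Cfsg.Agent.H78.StM in
/-- `S2547`: the Steinberg character of `PΩ_{2m+1}(F)`, `#F` odd, `m ≥ 1`. -/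
theorem main {F : Type*} [Field F] [Fintype F] (p : ℕ) [Fact p.Prime] [CharP F p]
    (hodd : Odd (Fintype.card F)) (m : ℕ) (hm : 1 ≤ m) :
    ∃ χ : Cfsg.POmega F (Cfsg.quadFormOdd m F) → ℂ,
      Cfsg.IsIrrCharacter (Cfsg.POmega F (Cfsg.quadFormOdd m F)) χ ∧
      ∀ P : Sylow p (Cfsg.POmega F (Cfsg.quadFormOdd m F)), χ 1 = Nat.card P ∧
        ∀ x : Cfsg.POmega F (Cfsg.quadFormOdd m F), x ∈ P → x ≠ 1 → χ x = 0 := by
  classical
  rcases Nat.lt_or_ge m 2 with h | h
  · obtain rfl : m = 1 := by omega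
    exact m_one p hodd
  · have h2 : (2 : F) ≠ 0 := Cfsg.Agent.H7.two_ne_zero_of_odd_card hodd
    obtain ⟨ε, hε⟩ := Cfsg.Agent.H14.StU.exists_wu_sign (2 * m + 1)
    have hnodes := ug_nodes (φ := RingHom.id F) (n := 2 * m + 1) ε hε
      (fun e => absurd e (by omega)) (fun p mm hmm hpm => hN3_id p mm hmm hpm)
    refine so_of p hodd m h (aU (2 * m + 1) F) (sgU ε) (apt 1)
      ⟨Fin.revPerm, Cfsg.Agent.H14.StU.revPerm_mem_wu (2 * m + 1)⟩ ?_ ?_ ?_ ?_ ?_ ?_
      (exists_psi h2 m hm) (Cfsg.Agent.H80.StU.so_sylow p h2 m)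
    · show (((ε _ : ℤˣ) : ℤ) : ℂ) ≠ 0
      rcases Int.units_eq_one_or (ε ⟨Fin.revPerm, Cfsg.Agent.H14.StU.revPerm_mem_wu (2 * m + 1)⟩)
        with e | e <;> rw [e] <;> norm_num
    · exact fun u hu => ug_fix u hu
    · exact fun w => ug_orbit (fun i => ⟨(hnodes i).choose, (hnodes i).choose_spec.1⟩) w
    · intro v hv w hw
      obtain ⟨h1, h2'⟩ := ug_big v hv w.1 hw
      exact ⟨h1, Subtype.ext h2'⟩
    · exact ug_stable ε hnodes
    · rintro t ⟨d, hd⟩
      exact diag_fix t d hd 1

end Cfsg.Agent.H12.StO
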