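import Mathlib
import Cfsg.Agent.H12.Basic
import Cfsg.Agent.H12.Index

/-!
# Subnormal subgroups: Wielandt's join theorem and related lemmas (helper12)
-/

set_option autoImplicit false
open Pointwise

namespace Cfsg.Agent.H12

universe u

variable {G : Type*} [Group G]

/-! ### Sylow subgroups and subnormal subgroups -/

theorem not_dvd_relIndex_of_isSubnormal [Finite G] (p : ℕ) [Fact p.Prime] (S : Sylow p G)
    {H : Subgroup G} (hH : H.IsSubnormal) : ¬ p ∣ ((S : Subgroup G) ⊓ H).relIndex H := by
  induction hH with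
  | top =>
    rw [inf_top_eq, Subgroup.relIndex_top_right]
    exact S.not_dvd_index
  | step H K h_le hSubn hN ih =>
    intro hdvd
    apply ih
    have h1 : (((S : Subgroup G) ⊓ K).subgroupOf K).relIndex (H.subgroupOf K) ∣
        (((S : Subgroup G) ⊓ K).subgroupOf K).index :=
      relIndex_dvd_index_of_normal_right _ _
    rw [Subgroup.relIndex_subgroupOf h_le] at h1
    have h2 : ((S : Subgroup G) ⊓ K).relIndex H = ((S : Subgroup G) ⊓ H).relIndex H := by
      rw [← Subgroup.inf_relIndex_right ((S : Subgroup G) ⊓ K) H, inf_assoc, inf_eq_right.mpr h_le]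
    rw [← h2] at hdvd
    exact hdvd.trans h1

/-! ### Conjugation and normalizers -/

theorem conj_smul_le_normalizer_conj_smul {A K : Subgroup G}
    (h : K ≤ Subgroup.normalizer (A : Set G)) (g : G) :
    MulAut.conj g • K ≤ Subgroup.normalizer ((MulAut.conj g • A : Subgroup G) : Set G) := by
  intro x hx
  rw [mem_conj_smul_iff] at hx
  have h1 := h hx
  rw [← conj_smul_eq_iff_mem_normalizer] at h1 ⊢
  calc MulAut.conj x • MulAut.conj g • A
      = MulAut.conj g • MulAut.conj (g⁻¹ * x * g) • A := by
        rw [conj_smul_conj_smul, conj_smul_conj_smul]; congr 2; group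
    _ = MulAut.conj g • A := by rw [h1]

theorem conj_smul_ne_bot {A : Subgroup G} (hA : A ≠ ⊥) (g : G) : MulAut.conj g • A ≠ ⊥ := by
  intro h
  apply hA
  have h1 := conj_inv_smul_conj_smul A g
  rw [h, Subgroup.smul_bot] at h1
  exact h1.symm

/-! ### Internal subnormality -/

/-- `SubnIn H K`: `H` is a subnormal subgroup of `K`, both subgroups of `G`. -/
inductive SubnIn : Subgroup G → Subgroup G → Prop
  | refl (K : Subgroup G) : SubnIn K K
  | step (H L K : Subgroup G) (hHL : H ≤ L) (hL : L ≤ Subgroup.normalizer (H : Set G))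
      (hLK : SubnIn L K) : SubnIn H K

theorem SubnIn.le {H K : Subgroup G} (h : SubnIn H K) : H ≤ K := by
  induction h with
  | refl K => exact le_rfl
  | step H L K hHL hL hLK ih => exact hHL.trans ih

theorem SubnIn.of_normal {H K : Subgroup G} (hHK : H ≤ K)
    (hK : K ≤ Subgroup.normalizer (H : Set G)) : SubnIn H K :=
  SubnIn.step H K K hHK hK (SubnIn.refl K)

theorem subnIn_bot (V : Subgroup G) : SubnIn ⊥ V :=
  SubnIn.of_normal bot_le (by
    intro x _
    rw [← conj_smul_eq_iff_mem_normalizer, Subgroup.smul_bot])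

theorem SubnIn.of_isSubnormal {H : Subgroup G} (h : H.IsSubnormal) : SubnIn H ⊤ := by
  induction h with
  | top => exact SubnIn.refl ⊤
  | step H K h_le hSubn hN ih =>
    exact SubnIn.step H K ⊤ h_le ((Subgroup.normal_subgroupOf_iff_le_normalizer h_le).mp hN) ih

theorem SubnIn.isSubnormal {H : Subgroup G} (h : SubnIn H ⊤) : H.IsSubnormal := by
  generalize hK : (⊤ : Subgroup G) = K at h
  induction h with
  | refl K => subst hK; exact Subgroup.IsSubnormal.top
  | step H L K hHL hL hLK ih =>
    exact Subgroup.IsSubnormal.step H L hHL (ih hK)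
      (Subgroup.normal_subgroupOf_of_le_normalizer hL)

theorem SubnIn.isSubnormal_subgroupOf {H K : Subgroup G} (h : SubnIn H K) :
    (H.subgroupOf K).IsSubnormal := by
  induction h with
  | refl K => rw [Subgroup.subgroupOf_self]; exact Subgroup.IsSubnormal.top
  | step H L K hHL hL hLK ih =>
    refine Subgroup.IsSubnormal.step _ (L.subgroupOf K) (fun x hx => hHL hx) ih ?_
    apply Subgroup.normal_subgroupOf_of_le_normalizer
    intro x hx
    rw [Subgroup.mem_normalizer_iff]
    intro y
    have := (Subgroup.mem_normalizer_iff.mp (hL hx)) (y : G)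
    simpa [Subgroup.mem_subgroupOf] using this

theorem subnIn_map_subtype {K : Subgroup G} {H' : Subgroup K} (h : H'.IsSubnormal) :
    SubnIn (H'.map K.subtype) K := by
  induction h with
  | top =>
    rw [← MonoidHom.range_eq_map, Subgroup.range_subtype]; exact SubnIn.refl K
  | step A B h_le hSubn hN ih =>
    refine SubnIn.step _ (B.map K.subtype) K (Subgroup.map_mono h_le) ?_ ih
    rw [Subgroup.normal_subgroupOf_iff_le_normalizer h_le] at hN
    exact le_trans (Subgroup.map_mono hN) (Subgroup.le_normalizer_map _)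

theorem subnIn_of_isSubnormal_subgroupOf {H K : Subgroup G} (hHK : H ≤ K)
    (h : (H.subgroupOf K).IsSubnormal) : SubnIn H K := by
  have := subnIn_map_subtype h
  rwa [Subgroup.map_subgroupOf_eq_of_le hHK] at this

theorem subnIn_iff {H K : Subgroup G} : SubnIn H K ↔ H ≤ K ∧ (H.subgroupOf K).IsSubnormal :=
  ⟨fun h => ⟨h.le, h.isSubnormal_subgroupOf⟩, fun h => subnIn_of_isSubnormal_subgroupOf h.1 h.2⟩

theorem SubnIn.inf_right {H K : Subgroup G} (h : SubnIn H K) (K' : Subgroup G) (hK' : K' ≤ K) :
    SubnIn (H ⊓ K') K' := by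
  induction h with
  | refl K => rw [inf_eq_right.mpr hK']; exact SubnIn.refl K'
  | step H L K hHL hL hLK ih =>
    refine SubnIn.step _ (L ⊓ K') K' (inf_le_inf_right K' hHL) ?_ (ih hK')
    intro x hx
    have h1 := hL hx.1
    rw [← conj_smul_eq_iff_mem_normalizer] at h1 ⊢
    rw [Subgroup.smul_inf, h1, conj_smul_eq_of_mem_normalizer (Subgroup.le_normalizer hx.2)]

theorem SubnIn.of_le {H K K' : Subgroup G} (h : SubnIn H K) (hHK' : H ≤ K') (hK' : K' ≤ K) :
    SubnIn H K' := by
  have := h.inf_right K' hK'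
  rwa [inf_eq_left.mpr hHK'] at this

theorem SubnIn.trans {H L K : Subgroup G} (h1 : SubnIn H L) (h2 : SubnIn L K) : SubnIn H K := by
  induction h1 with
  | refl L => exact h2
  | step H M L hHM hM hML ih => exact SubnIn.step H M K hHM hM (ih h2)

theorem SubnIn.exists_normal_lt {H K : Subgroup G} (h : SubnIn H K) (hne : H ≠ K) :
    ∃ K', H ≤ K' ∧ K' < K ∧ K ≤ Subgroup.normalizer (K' : Set G) ∧ SubnIn H K' := by
  induction h with
  | refl K => exact absurd rfl hne
  | step H L K hHL hL hLK ih =>
    by_cases hLK' : L = K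
    · subst hLK'
      exact ⟨H, le_rfl, lt_of_le_of_ne hHL hne, hL, SubnIn.refl H⟩
    · obtain ⟨K', h1, h2, h3, h4⟩ := ih hLK'
      exact ⟨K', hHL.trans h1, h2, h3, SubnIn.step H L K' hHL hL h4⟩

theorem SubnIn.conj {H K : Subgroup G} (h : SubnIn H K) (g : G) :
    SubnIn (MulAut.conj g • H) (MulAut.conj g • K) := by
  induction h with
  | refl K => exact SubnIn.refl _
  | step H L K hHL hL hLK ih =>
    exact SubnIn.step _ (MulAut.conj g • L) _
      (Subgroup.pointwise_smul_le_pointwise_smul_iff.mpr hHL)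
      (conj_smul_le_normalizer_conj_smul hL g) ih

/-! ### Minimal normal subgroups (internal version) -/

/-- `A` is a minimal normal subgroup of `K` (internal version). -/
def IsMinNormalIn (A K : Subgroup G) : Prop :=
  A ≤ K ∧ A ≠ ⊥ ∧ K ≤ Subgroup.normalizer (A : Set G) ∧
    ∀ L : Subgroup G, L ≤ A → L ≠ ⊥ → K ≤ Subgroup.normalizer (L : Set G) → L = A

theorem exists_isMinNormalIn [Finite G] {A K : Subgroup G} (hAK : A ≤ K) (hA : A ≠ ⊥)
    (hK : K ≤ Subgroup.normalizer (A : Set G)) : ∃ B, B ≤ A ∧ IsMinNormalIn B K := by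
  obtain ⟨B, hBA, hB⟩ := Finite.exists_le_minimal
    (p := fun L : Subgroup G => L ≤ A ∧ L ≠ ⊥ ∧ K ≤ Subgroup.normalizer (L : Set G))
    ⟨le_rfl, hA, hK⟩
  refine ⟨B, hBA, hB.prop.1.trans hAK, hB.prop.2.1, hB.prop.2.2, fun L hLB hL hKL => ?_⟩
  exact le_antisymm hLB (hB.le_of_le ⟨hLB.trans hB.prop.1, hL, hKL⟩ hLB)

theorem IsMinNormalIn.conj {B K : Subgroup G} (h : IsMinNormalIn B K) (g : G) :
    IsMinNormalIn (MulAut.conj g • B) (MulAut.conj g • K) := by
  obtain ⟨h1, h2, h3, h4⟩ := h
  refine ⟨Subgroup.pointwise_smul_le_pointwise_smul_iff.mpr h1, conj_smul_ne_bot h2 g,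
    conj_smul_le_normalizer_conj_smul h3 g, ?_⟩
  intro L hL hLne hKL
  have e1 : MulAut.conj g⁻¹ • L = B := by
    apply h4
    · have := Subgroup.pointwise_smul_le_pointwise_smul_iff (a := MulAut.conj g⁻¹) |>.mpr hL
      rwa [conj_inv_smul_conj_smul] at this
    · exact conj_smul_ne_bot hLne _
    · have := conj_smul_le_normalizer_conj_smul hKL g⁻¹
      rwa [conj_inv_smul_conj_smul] at this
  rw [← e1, conj_smul_conj_inv_smul]

theorem IsMinNormalIn.conj_of_eq {B K : Subgroup G} (h : IsMinNormalIn B K) {g : G}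
    (hg : MulAut.conj g • K = K) : IsMinNormalIn (MulAut.conj g • B) K := by
  have := h.conj g
  rwa [hg] at this

theorem card_lt_card_of_lt' [Finite G] {M N : Subgroup G} (h : M < N) :
    Nat.card M < Nat.card N := by
  refine lt_of_le_of_ne (Subgroup.card_le_of_le h.le) fun heq => ?_
  exact h.ne (Subgroup.eq_of_le_of_card_ge h.le heq.ge)

/-- Key lemma: a minimal normal subgroup normalizes every subnormal subgroup. -/
theorem isMinNormalIn_le_normalizer_aux [Finite G] (n : ℕ) :
    ∀ K H A : Subgroup G, Nat.card K = n → SubnIn H K → IsMinNormalIn A K →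
      A ≤ Subgroup.normalizer (H : Set G) := by
  induction n using Nat.strong_induction_on with
  | _ n ih =>
    intro K H A hn hHK hA
    by_cases hHeq : H = K
    · subst hHeq
      exact hA.1.trans Subgroup.le_normalizer
    obtain ⟨K', hHK', hK'lt, hK'n, hHK'sub⟩ := hHK.exists_normal_lt hHeq
    obtain ⟨hAK, hAne, hAn, hAmin⟩ := hA
    by_cases hdisj : A ⊓ K' = ⊥
    · -- `A` centralizes `K'`
      intro a ha
      have hcomm : ∀ k ∈ K', a * k = k * a := by
        intro k hk
        have h1 : a * k * a⁻¹ * k⁻¹ ∈ A ⊓ K' := by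
          constructor
          · have h2 : k * a⁻¹ * k⁻¹ ∈ A := by
              have hkn := hAn (hK'lt.le hk)
              exact (Subgroup.mem_normalizer_iff.mp hkn a⁻¹).mp (A.inv_mem ha)
            have := A.mul_mem ha h2
            simpa [mul_assoc] using this
          · have h2 : a * k * a⁻¹ ∈ K' := by
              have han := hK'n (hAK ha)
              exact (Subgroup.mem_normalizer_iff.mp han k).mp hk
            exact K'.mul_mem h2 (K'.inv_mem hk)
        rw [hdisj, Subgroup.mem_bot] at h1
        calc a * k = (a * k * a⁻¹ * k⁻¹) * (k * a) := by group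
          _ = k * a := by rw [h1, one_mul]
      rw [← conj_smul_eq_iff_mem_normalizer]
      apply conj_smul_eq_of_ge
      rintro _ ⟨h, hh, rfl⟩
      show a * h * a⁻¹ ∈ H
      rw [hcomm h (hHK' hh), mul_assoc, mul_inv_cancel, mul_one]
      exact hh
    · have hAK' : A ≤ K' := by
        have h1 : A ⊓ K' = A := hAmin (A ⊓ K') inf_le_left hdisj (by
          intro x hx
          rw [← conj_smul_eq_iff_mem_normalizer, Subgroup.smul_inf,
            conj_smul_eq_of_mem_normalizer (hAn hx), conj_smul_eq_of_mem_normalizer (hK'n hx)])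
        exact inf_eq_left.mp h1
      obtain ⟨B, hBA, hB⟩ := exists_isMinNormalIn hAK' hAne (hK'lt.le.trans hAn)
      have hJA : (⨆ k : K, MulAut.conj (k : G) • B) ≤ A := iSup_le fun k =>
        calc MulAut.conj (k : G) • B ≤ MulAut.conj (k : G) • A :=
              Subgroup.pointwise_smul_le_pointwise_smul_iff.mpr hBA
          _ = A := conj_smul_eq_of_mem_normalizer (hAn k.2)
      have hJne : (⨆ k : K, MulAut.conj (k : G) • B) ≠ ⊥ := by
        intro h
        apply hB.2.1
        have h1 : B ≤ ⨆ k : K, MulAut.conj (k : G) • B := by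
          have := le_iSup (fun k : K => MulAut.conj (k : G) • B) 1
          simpa using this
        rw [h] at h1
        exact le_bot_iff.mp h1
      have hJn : K ≤ Subgroup.normalizer ((⨆ k : K, MulAut.conj (k : G) • B : Subgroup G) : Set G) := by
        intro x hx
        rw [← conj_smul_eq_iff_mem_normalizer]
        apply conj_smul_eq_of_ge
        rw [Subgroup.pointwise_smul_subset_iff]
        apply iSup_le
        intro k
        rw [← Subgroup.pointwise_smul_subset_iff, conj_smul_conj_smul]
        exact le_iSup (fun k : K => MulAut.conj (k : G) • B) ⟨x * k, K.mul_mem hx k.2⟩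
      have hJ : (⨆ k : K, MulAut.conj (k : G) • B) = A := hAmin _ hJA hJne hJn
      rw [← hJ]
      apply iSup_le
      intro k
      have hk : MulAut.conj (k : G) • K' = K' := conj_smul_eq_of_mem_normalizer (hK'n k.2)
      exact ih (Nat.card K') (by rw [← hn]; exact card_lt_card_of_lt' hK'lt) K' H _ rfl hHK'sub
        (hB.conj_of_eq hk)

/-- A minimal normal subgroup normalizes every subnormal subgroup. -/
theorem isMinNormalIn_le_normalizer [Finite G] {K H A : Subgroup G} (hHK : SubnIn H K)
    (hA : IsMinNormalIn A K) : A ≤ Subgroup.normalizer (H : Set G) :=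
  isMinNormalIn_le_normalizer_aux _ K H A rfl hHK hA

/-! ### Wielandt's join theorem -/

theorem isSubnormal_sup_aux (n : ℕ) : ∀ (G : Type u) [Group G] [Finite G], Nat.card G = n →
    ∀ A B : Subgroup G, A.IsSubnormal → B.IsSubnormal → (A ⊔ B).IsSubnormal := by
  induction n using Nat.strong_induction_on with
  | _ n ih =>
    intro G _ _ hn A B hA hB
    rcases subsingleton_or_nontrivial G with hsub | hnt
    · have : A ⊔ B = ⊤ := Subsingleton.elim _ _
      rw [this]; exact Subgroup.IsSubnormal.top
    · obtain ⟨M, -, hM⟩ := exists_isMinNormalIn (A := (⊤ : Subgroup G)) (K := ⊤) le_rfl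
        top_ne_bot Subgroup.le_normalizer
      have hMnormal : M.Normal := by
        rw [← Subgroup.normalizer_eq_top_iff]; exact top_le_iff.mp hM.2.2.1
      have hMA := isMinNormalIn_le_normalizer (SubnIn.of_isSubnormal hA) hM
      have hMB := isMinNormalIn_le_normalizer (SubnIn.of_isSubnormal hB) hM
      have hcard : Nat.card (G ⧸ M) < n := by
        rw [← hn]; exact card_quotient_lt_of_ne_bot M hM.2.1
      have h1 := ih _ hcard (G ⧸ M) rfl (A.map (QuotientGroup.mk' M))
        (B.map (QuotientGroup.mk' M))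
        (hA.map (QuotientGroup.mk'_surjective M)) (hB.map (QuotientGroup.mk'_surjective M))
      rw [← Subgroup.map_sup] at h1
      have h2 := h1.comap (QuotientGroup.mk' M)
      rw [Subgroup.comap_map_eq, QuotientGroup.ker_mk'] at h2
      refine Subgroup.IsSubnormal.step _ _ le_sup_left h2 ?_
      apply Subgroup.normal_subgroupOf_of_le_normalizer
      refine sup_le Subgroup.le_normalizer ?_
      exact (le_inf hMA hMB).trans (Subgroup.normalizer_inf_normalizer_le_normalizer_sup A B)

/-- **Wielandt**: the join of two subnormal subgroups of a finite group is subnormal. -/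
theorem isSubnormal_sup {G : Type u} [Group G] [Finite G] {A B : Subgroup G}
    (hA : A.IsSubnormal) (hB : B.IsSubnormal) : (A ⊔ B).IsSubnormal :=
  isSubnormal_sup_aux _ G rfl A B hA hB

theorem SubnIn.sup {G : Type u} [Group G] [Finite G] {A B V : Subgroup G} (hA : SubnIn A V)
    (hB : SubnIn B V) : SubnIn (A ⊔ B) V := by
  have h1 := isSubnormal_sup hA.isSubnormal_subgroupOf hB.isSubnormal_subgroupOf
  rw [← Subgroup.subgroupOf_sup hA.le hB.le] at h1
  exact subnIn_of_isSubnormal_subgroupOf (sup_le hA.le hB.le) h1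

theorem subnIn_sSup {G : Type u} [Group G] [Finite G] {V : Subgroup G} (T : Set (Subgroup G))
    (hT : ∀ X ∈ T, SubnIn X V) : SubnIn (sSup T) V := by
  have hfin : T.Finite := Set.toFinite T
  revert hT
  refine Set.Finite.induction_on
    (motive := fun T _ => (∀ X ∈ T, SubnIn X V) → SubnIn (sSup T) V) T hfin ?_ ?_
  · intro _; rw [sSup_empty]; exact subnIn_bot V
  · intro a s _ _ ih hT
    rw [sSup_insert]
    exact (hT a (Set.mem_insert a s)).sup (ih fun X hX => hT X (Set.mem_insert_of_mem a hX))

/-! ### Conjugates normalizing a non-normal subnormal subgroup -/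

theorem SubnIn.exists_conj_le_normalizer {L K : Subgroup G} (h : SubnIn L K) :
    ∀ J : Subgroup G, J ≤ L → L ≤ Subgroup.normalizer (J : Set G) →
      ¬ K ≤ Subgroup.normalizer (J : Set G) →
      ∃ g ∈ K, MulAut.conj g • J ≠ J ∧ MulAut.conj g • J ≤ Subgroup.normalizer (J : Set G) := by
  induction h with
  | refl K => intro J _ h1 h2; exact absurd h1 h2
  | step L L' K hLL' hL' hL'K ih =>
    intro J hJL hLJ hKJ
    by_cases hL'J : L' ≤ Subgroup.normalizer (J : Set G)
    · exact ih J (hJL.trans hLL') hL'J hKJ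
    · obtain ⟨g, hgL', hgJ⟩ := SetLike.not_le_iff_exists.mp hL'J
      refine ⟨g, hL'K.le hgL', fun h => hgJ (conj_smul_eq_iff_mem_normalizer.mp h), ?_⟩
      calc MulAut.conj g • J ≤ MulAut.conj g • L :=
            Subgroup.pointwise_smul_le_pointwise_smul_iff.mpr hJL
        _ = L := conj_smul_eq_of_mem_normalizer (hL' hgL')
        _ ≤ _ := hLJ

/-- Relative form of Wielandt's lemma: a family `S` of subnormal subgroups of `V` closed under
`V`-conjugation, and a proper subfamily `S₀`: some member of `S` outside `S₀` normalizes the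
join of `S₀`. -/
theorem exists_le_normalizer_sSup {G : Type u} [Group G] [Finite G] (V : Subgroup G)
    (S S₀ : Set (Subgroup G))
    (hS : ∀ U ∈ S, SubnIn U V) (hconj : ∀ U ∈ S, ∀ g ∈ V, MulAut.conj g • U ∈ S)
    (h₀ : S₀ ⊆ S) (hne : ∃ X ∈ S, X ∉ S₀) :
    ∃ X ∈ S, X ∉ S₀ ∧ X ≤ Subgroup.normalizer ((sSup S₀ : Subgroup G) : Set G) := by
  have hJ : SubnIn (sSup S₀) V := subnIn_sSup S₀ fun X hX => hS X (h₀ hX)
  by_cases hn : V ≤ Subgroup.normalizer ((sSup S₀ : Subgroup G) : Set G)
  · obtain ⟨X, hX, hX0⟩ := hne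
    exact ⟨X, hX, hX0, (hS X hX).le.trans hn⟩
  · obtain ⟨g, hgV, hgJ, hgN⟩ :=
      hJ.exists_conj_le_normalizer (sSup S₀) le_rfl Subgroup.le_normalizer hn
    have : ∃ X ∈ S₀, ¬ MulAut.conj g • X ≤ sSup S₀ := by
      by_contra hcon
      push Not at hcon
      apply hgJ
      apply conj_smul_eq_of_ge
      rw [Subgroup.pointwise_smul_subset_iff]
      apply sSup_le
      intro X hX
      rw [← Subgroup.pointwise_smul_subset_iff]
      exact hcon X hX
    obtain ⟨X, hX0, hX⟩ := this
    refine ⟨MulAut.conj g • X, hconj X (h₀ hX0) g hgV, fun h => hX (le_sSup h), ?_⟩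
    exact (Subgroup.pointwise_smul_le_pointwise_smul_iff.mpr (le_sSup hX0)).trans hgN

end Cfsg.Agent.H12
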