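import Mathlib
import Cfsg.Agent.H12.Subnormal

/-!
# Subnormal subgroups, part 2 (helper12)
-/

set_option autoImplicit false
open Pointwise

namespace Cfsg.Agent.H12

universe u

variable {G : Type*} [Group G]

theorem conj_smul_sSup_eq_of_forall_mem [Finite G] {T : Set (Subgroup G)} {x : G}
    (h : ∀ B ∈ T, MulAut.conj x • B ∈ T) : MulAut.conj x • sSup T = sSup T := by
  apply conj_smul_eq_of_ge
  rw [Subgroup.pointwise_smul_subset_iff]
  apply sSup_le
  intro B hB
  rw [← Subgroup.pointwise_smul_subset_iff]
  exact le_sSup (h B hB)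

theorem le_normalizer_sSup_of_forall_mem [Finite G] {T : Set (Subgroup G)} {V : Subgroup G}
    (h : ∀ B ∈ T, ∀ x ∈ V, MulAut.conj x • B ∈ T) :
    V ≤ Subgroup.normalizer ((sSup T : Subgroup G) : Set G) := by
  intro x hx
  rw [← conj_smul_eq_iff_mem_normalizer]
  exact conj_smul_sSup_eq_of_forall_mem fun B hB => h B hB x hx

/-- Every subgroup of a finite nilpotent group is subnormal. -/
theorem isSubnormal_of_isNilpotent {N : Type*} [Group N] [Finite N] [Group.IsNilpotent N]
    (H : Subgroup N) : H.IsSubnormal := by
  induction H using WellFoundedGT.induction with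
  | ind H ih =>
    by_cases hH : H = ⊤
    · subst hH; exact Subgroup.IsSubnormal.top
    · have hlt : H < Subgroup.normalizer (H : Set N) :=
        Group.normalizerCondition_of_isNilpotent H (lt_top_iff_ne_top.mpr hH)
      exact Subgroup.IsSubnormal.step H _ hlt.le (ih _ hlt)
        (Subgroup.normal_subgroupOf_of_le_normalizer le_rfl)

/-- Every subgroup of a finite `p`-subgroup is subnormal in it. -/
theorem subnIn_of_isPGroup [Finite G] {p : ℕ} [Fact p.Prime] {B P : Subgroup G}
    (hP : IsPGroup p P) (hBP : B ≤ P) : SubnIn B P := by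
  have : Group.IsNilpotent P := hP.isNilpotent
  exact subnIn_of_isSubnormal_subgroupOf hBP (isSubnormal_of_isNilpotent _)

end Cfsg.Agent.H12
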