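import Mathlib
import Cfsg.Agent.H12.JzOut1
import Cfsg.Agent.H12.SpConjG
import Cfsg.Agent.H51.Local
import Cfsg.Agent.H51.Amalgam
import Cfsg.Agent.H14.Thompson

/-!
# S2953 (two `J(T)`-components): the second component by conjugation

`Clauses T P` is the per-`P` part of the conclusion of S2953 (verbatim).  It is invariant under
conjugation by `x ∈ N_G(T)`.  If `K₁` is a `J(T)`-component with `Clauses T (K₁ ⊔ T)`, and
`x ∈ N_G(T)` lies outside the unique maximal 2-local subgroup `L₁` over `K₁ ⊔ T`, while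
`N_G(K₁) ≤ L₁`, then `K₁` and `K₂ := K₁^x` satisfy the whole conclusion of S2953:
`K₂ ≠ K₁` (else `x ∈ N_G(K₁) ≤ L₁`) and `O₂(⟨K₁T, K₂T⟩) = 1` (otherwise its normalizer lies in a
maximal 2-local subgroup over `K₁T` and over `(K₁T)^x`, i.e. `L₁ = L₁^x`, `x ∈ N_G(L₁) = L₁`).
-/

set_option autoImplicit false
open Cfsg

namespace Cfsg.Agent.H12.Tc

universe u

/-- The per-`P` clauses of the conclusion of S2953 (verbatim). -/
def Clauses {G : Type u} [Group G] (T P : Subgroup G) : Prop :=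
  Subgroup.centralizer (Cfsg.pCoreOf 2 P : Set G) ≤ Cfsg.pCoreOf 2 P ∧ Cfsg.IsSylowTwoIn T P ∧
  (Cfsg.pCoreOf 2 P).relIndex P = 6 ∧ ¬ ⁅P, P⁆ ≤ Cfsg.pCoreOf 2 P ∧
  ⁅Cfsg.omegaCenterOf T, P⁆ ≠ ⊥ ∧
  ∃ L : Subgroup G, Cfsg.IsMaximalTwoLocal L ∧ P ≤ L ∧ Cfsg.IsSylowTwoIn T L ∧
    ∀ L' : Subgroup G, Cfsg.IsMaximalTwoLocal L' → P ≤ L' → L' = L

/-- The clauses are invariant under conjugation by an element of `N_G(T)`. -/
theorem clauses_conj {G : Type u} [Group G] {T P : Subgroup G} {x : G}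
    (hx : x ∈ Subgroup.normalizer (T : Set G)) (h : Clauses T P) :
    Clauses T (P.map (MulAut.conj x).toMonoidHom) := by
  have hinj : Function.Injective (MulAut.conj x).toMonoidHom := (MulAut.conj x).injective
  have hT : T.map (MulAut.conj x).toMonoidHom = T :=
    Cfsg.Agent.H12.Jz.map_conj_eq_of_mem_normalizer hx
  have hO : pCoreOf 2 (P.map (MulAut.conj x).toMonoidHom) =
      (pCoreOf 2 P).map (MulAut.conj x).toMonoidHom :=
    Cfsg.Agent.H51.pCoreOf_map 2 P (MulAut.conj x)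
  unfold Clauses at h
  obtain ⟨h1, h2, h3, h4, h5, L, hL1, hL2, hL3, hL4⟩ := h
  have hsyl : ∀ {Y : Subgroup G}, IsSylowTwoIn T Y →
      IsSylowTwoIn T (Y.map (MulAut.conj x).toMonoidHom) := by
    intro Y hY
    obtain ⟨a, b, c⟩ := hY
    refine ⟨?_, b, ?_⟩
    · calc T = T.map (MulAut.conj x).toMonoidHom := hT.symm
        _ ≤ Y.map (MulAut.conj x).toMonoidHom := Subgroup.map_mono a
    · have e : T.relIndex (Y.map (MulAut.conj x).toMonoidHom) = T.relIndex Y := by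
        conv_lhs => rw [← hT]
        exact Subgroup.relIndex_map_map_of_injective T Y hinj
      rw [e]
      exact c
  unfold Clauses
  refine ⟨?_, hsyl h2, ?_, ?_, ?_, L.map (MulAut.conj x).toMonoidHom, ?_,
    Subgroup.map_mono hL2, hsyl hL3, ?_⟩
  · rw [hO]
    intro c hc
    have h' : x⁻¹ * c * x ∈ Subgroup.centralizer (pCoreOf 2 P : Set G) := by
      rw [Subgroup.mem_centralizer_iff]
      intro q hq
      have hq' : x * q * x⁻¹ ∈
          ((pCoreOf 2 P).map (MulAut.conj x).toMonoidHom : Subgroup G) := ⟨q, hq, rfl⟩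
      have hcq := (Subgroup.mem_centralizer_iff.mp hc) (x * q * x⁻¹) hq'
      calc q * (x⁻¹ * c * x) = x⁻¹ * (x * q * x⁻¹ * c) * x := by group
        _ = x⁻¹ * (c * (x * q * x⁻¹)) * x := by rw [hcq]
        _ = x⁻¹ * c * x * q := by group
    refine ⟨x⁻¹ * c * x, h1 h', ?_⟩
    simp only [MulEquiv.coe_toMonoidHom, MulAut.conj_apply]
    group
  · rw [hO, Subgroup.relIndex_map_map_of_injective _ _ hinj]
    exact h3
  · rw [hO, ← Subgroup.map_commutator]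
    intro hle
    exact h4 ((Subgroup.map_le_map_iff_of_injective hinj).mp hle)
  · have hΩ : (omegaCenterOf T).map (MulAut.conj x).toMonoidHom = omegaCenterOf T := by
      have h6 := Cfsg.Agent.H14.omegaOne_center_conj 2 x T
      rw [hT] at h6
      exact h6
    rw [← hΩ, ← Subgroup.map_commutator]
    intro h0
    exact h5 ((Subgroup.map_eq_bot_iff_of_injective _ hinj).mp h0)
  · exact Cfsg.Agent.H12.Jz.isMaximalTwoLocal_conj x hL1
  · intro L' hL' hPL'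
    have hm := Cfsg.Agent.H12.Jz.isMaximalTwoLocal_conj x⁻¹ hL'
    have hP' : P ≤ L'.map (MulAut.conj x⁻¹).toMonoidHom := by
      have h7 := Subgroup.map_mono (f := (MulAut.conj x⁻¹).toMonoidHom) hPL'
      rwa [Cfsg.Agent.H12.Sp.map_conj_conj_inv] at h7
    have e := hL4 _ hm hP'
    rw [← e]
    have h6 := Cfsg.Agent.H12.Sp.map_conj_conj_inv L' x⁻¹
    rw [inv_inv] at h6
    exact h6.symm

/-- The conclusion of S2953 from one component `K₁` with the clauses and an element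
`x ∈ N_G(T)` outside the maximal 2-local subgroup over `K₁ ⊔ T`. -/
theorem two_of_conj {G : Type u} [Group G] [Finite G] (T K₁ : Subgroup G) (x : G)
    (hK : IsJComponent T K₁) (hx : x ∈ Subgroup.normalizer (T : Set G))
    (hC : Clauses T (K₁ ⊔ T))
    (hxL : ∀ L : Subgroup G, IsMaximalTwoLocal L → K₁ ⊔ T ≤ L → x ∉ L)
    (hNK : ∀ L : Subgroup G, IsMaximalTwoLocal L → K₁ ⊔ T ≤ L →
      Subgroup.normalizer (K₁ : Set G) ≤ L)
    (hmax : ∀ N : Subgroup G, IsTwoLocal N → ∃ L : Subgroup G, IsMaximalTwoLocal L ∧ N ≤ L) :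
    ∃ K₁ K₂ : Subgroup G, K₁ ≠ K₂ ∧ Cfsg.IsJComponent T K₁ ∧ Cfsg.IsJComponent T K₂ ∧
      Cfsg.pCoreOf 2 ((K₁ ⊔ T) ⊔ (K₂ ⊔ T)) = ⊥ ∧
      ∀ P ∈ [K₁ ⊔ T, K₂ ⊔ T],
        Subgroup.centralizer (Cfsg.pCoreOf 2 P : Set G) ≤ Cfsg.pCoreOf 2 P ∧ Cfsg.IsSylowTwoIn T P ∧
        (Cfsg.pCoreOf 2 P).relIndex P = 6 ∧ ¬ ⁅P, P⁆ ≤ Cfsg.pCoreOf 2 P ∧ ⁅Cfsg.omegaCenterOf T, P⁆ ≠ ⊥ ∧
        ∃ L : Subgroup G, Cfsg.IsMaximalTwoLocal L ∧ P ≤ L ∧ Cfsg.IsSylowTwoIn T L ∧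
          ∀ L' : Subgroup G, Cfsg.IsMaximalTwoLocal L' → P ≤ L' → L' = L := by
  have hT : T.map (MulAut.conj x).toMonoidHom = T :=
    Cfsg.Agent.H12.Jz.map_conj_eq_of_mem_normalizer hx
  have hP2 : K₁.map (MulAut.conj x).toMonoidHom ⊔ T =
      (K₁ ⊔ T).map (MulAut.conj x).toMonoidHom := by
    rw [Subgroup.map_sup, hT]
  have hC2 : Clauses T (K₁.map (MulAut.conj x).toMonoidHom ⊔ T) := by
    rw [hP2]
    exact clauses_conj hx hC
  have hK2 : IsJComponent T (K₁.map (MulAut.conj x).toMonoidHom) := by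
    have h := Cfsg.Agent.H12.Sp.isJComponent_conj T K₁ x hK
    rwa [hT] at h
  have hC' := hC
  unfold Clauses at hC'
  obtain ⟨-, -, -, -, -, L₁, hL1, hL2, -, hL4⟩ := hC'
  have hxL₁ : x ∉ L₁ := hxL L₁ hL1 hL2
  refine ⟨K₁, K₁.map (MulAut.conj x).toMonoidHom, ?_, hK, hK2, ?_, ?_⟩
  · intro heq
    apply hxL₁
    exact hNK L₁ hL1 hL2 (Cfsg.Agent.H12.Jz.mem_normalizer_of_map_conj_eq heq.symm)
  · by_contra hne
    have hQ2 : IsPGroup 2 ↥(pCoreOf 2 ((K₁ ⊔ T) ⊔ (K₁.map (MulAut.conj x).toMonoidHom ⊔ T))) :=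
      Cfsg.Agent.H51.pCoreOf_isPGroup 2 _
    have hN := Cfsg.Agent.H51.le_normalizer_pCoreOf 2
      ((K₁ ⊔ T) ⊔ (K₁.map (MulAut.conj x).toMonoidHom ⊔ T))
    obtain ⟨L', hL', hNL'⟩ := hmax _ ⟨_, hQ2, hne, rfl⟩
    have h1 : K₁ ⊔ T ≤ L' := le_sup_left.trans (hN.trans hNL')
    have h2 : (K₁ ⊔ T).map (MulAut.conj x).toMonoidHom ≤ L' := by
      rw [← hP2]
      exact le_sup_right.trans (hN.trans hNL')
    have e1 : L' = L₁ := hL4 L' hL' h1
    have hm := Cfsg.Agent.H12.Jz.isMaximalTwoLocal_conj x⁻¹ hL'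
    have h3 : K₁ ⊔ T ≤ L'.map (MulAut.conj x⁻¹).toMonoidHom := by
      have h7 := Subgroup.map_mono (f := (MulAut.conj x⁻¹).toMonoidHom) h2
      rwa [Cfsg.Agent.H12.Sp.map_conj_conj_inv] at h7
    have e2 : L'.map (MulAut.conj x⁻¹).toMonoidHom = L₁ := hL4 _ hm h3
    rw [e1] at e2
    have hxinv : x⁻¹ ∈ L₁ := Cfsg.Agent.H12.Jz.mem_of_map_conj_eq hL1 e2
    exact hxL₁ (by simpa using inv_mem hxinv)
  · intro P hP
    rcases List.mem_cons.mp hP with rfl | hP'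
    · exact hC
    · rcases List.mem_cons.mp hP' with rfl | hP''
      · exact hC2
      · cases hP''

end Cfsg.Agent.H12.Tc
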