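import Mathlib
import Cfsg.Agent.H24.ZStarB
import Cfsg.Agent.H38.Dihedral
import Cfsg.Agent.H12.Schmidt

/-!
# Involutions whose centralizer contains at most three involutions (S3279)

In a finite simple group, an involution `x` whose centralizer has at most three involutions is
`2`-central and all involutions are conjugate.  The key is a dihedral-group argument (`lemK`):
if `z = x y` is not conjugate to `x ~ y` then `z` commutes with all of its conjugates.
-/

set_option autoImplicit false

namespace Cfsg.Agent.H12.ThreeInv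

open Cfsg Cfsg.Agent

universe u

open scoped Pointwise

variable {G : Type u} [Group G]

theorem orderOf_conj' (g a : G) : orderOf (g⁻¹ * a * g) = orderOf a := by
  have := MulEquiv.orderOf_eq (MulAut.conj g⁻¹) a
  simpa [MulAut.conj_apply] using this

theorem inv_self {a : G} (ha : orderOf a = 2) : a⁻¹ = a :=
  inv_eq_of_mul_eq_one_left (H38.invol_of_orderOf ha)

theorem ne_one_of_two {a : G} (ha : orderOf a = 2) : a ≠ 1 := by
  intro h
  rw [h, orderOf_one] at ha
  omega

/-- the product of two distinct commuting involutions is an involution -/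
theorem orderOf_mul_two {a b : G} (ha : orderOf a = 2) (hb : orderOf b = 2) (hab : a * b = b * a)
    (hne : a ≠ b) : orderOf (a * b) = 2 := by
  apply H38.orderOf_eq_two_of_invol
  · calc a * b * (a * b) = a * (b * a) * b := by group
      _ = a * (a * b) * b := by rw [hab]
      _ = (a * a) * (b * b) := by group
      _ = 1 := by rw [H38.invol_of_orderOf ha, H38.invol_of_orderOf hb, one_mul]
  · intro h
    apply hne
    have h1 : a = b⁻¹ := eq_inv_of_mul_eq_one_left h
    rw [h1, inv_self hb]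

/-- **Dihedral lemma.** -/
theorem lemK [Finite G] (x y z : G) (hx : orderOf x = 2) (hy : orderOf y = 2)
    (hz : orderOf z = 2) (hxyz : z = x * y) (hxy : x * y = y * x)
    (hCx : ∀ u : G, orderOf u = 2 → x * u = u * x → u = x ∨ u = y ∨ u = z)
    (hCy : ∀ u : G, orderOf u = 2 → y * u = u * y → u = x ∨ u = y ∨ u = z)
    (hzx : ¬ IsConj z x) (hzy : ¬ IsConj z y) (g : G) :
    z * (g⁻¹ * z * g) = (g⁻¹ * z * g) * z := by
  set z' := g⁻¹ * z * g with hz'
  have hz'2 : orderOf z' = 2 := by rw [hz', orderOf_conj']; exact hz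
  have hzz' : IsConj z z' := isConj_iff.mpr ⟨g⁻¹, by rw [hz', inv_inv]⟩
  have hx1 := H38.invol_of_orderOf hx
  have hy1 := H38.invol_of_orderOf hy
  rcases H38.isConj_or_exists_invol_commute hx hz'2 with h | ⟨w, hw2, hwx, hwz', -⟩
  · exact absurd (hzz'.trans h.symm) hzx
  · rcases hCx w hw2 hwx.symm with e | e | e
    · -- `x` commutes with `z'`
      rw [e] at hwz'
      have h1 : x ≠ z' := fun h => hzx (h ▸ hzz')
      have h2 : orderOf (x * z') = 2 := orderOf_mul_two hx hz'2 hwz' h1
      have h3 : x * (x * z') = (x * z') * x := by rw [mul_assoc, hwz']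
      rcases hCx (x * z') h2 h3 with h4 | h4 | h4
      · exact absurd (mul_eq_left.mp h4) (ne_one_of_two hz'2)
      · have h5 : z' = z := by
          calc z' = x * (x * z') := by rw [← mul_assoc, hx1, one_mul]
            _ = z := by rw [h4, hxyz]
        rw [h5]
      · have h5 : z' = y := by
          rw [hxyz] at h4
          exact mul_left_cancel h4
        exact absurd (h5 ▸ hzz') hzy
    · -- `y` commutes with `z'`
      rw [e] at hwz'
      have h1 : y ≠ z' := fun h => hzy (h ▸ hzz')
      have h2 : orderOf (y * z') = 2 := orderOf_mul_two hy hz'2 hwz' h1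
      have h3 : y * (y * z') = (y * z') * y := by rw [mul_assoc, hwz']
      rcases hCy (y * z') h2 h3 with h4 | h4 | h4
      · have h5 : z' = z := by
          calc z' = y * (y * z') := by rw [← mul_assoc, hy1, one_mul]
            _ = z := by rw [h4, hxyz, hxy]
        rw [h5]
      · exact absurd (mul_eq_left.mp h4) (ne_one_of_two hz'2)
      · have h5 : z' = x := by
          calc z' = y * (y * z') := by rw [← mul_assoc, hy1, one_mul]
            _ = y * (y * x) := by rw [h4, hxyz, hxy]
            _ = x := by rw [← mul_assoc, hy1, one_mul]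
        exact absurd (h5 ▸ hzz') hzx
    · rw [e] at hwz'
      exact hwz'

/-- an element commuting with all its conjugates in a simple group forces commutativity -/
theorem comm_of_conj_commute [IsSimpleGroup G] (z : G) (hz1 : z ≠ 1)
    (h : ∀ g : G, z * (g⁻¹ * z * g) = (g⁻¹ * z * g) * z) : ∀ a b : G, a * b = b * a := by
  have h1 : Subgroup.normalClosure {z} ≤ Subgroup.centralizer {z} := by
    apply (Subgroup.closure_le _).mpr
    intro c hc
    rw [Group.mem_conjugatesOfSet_iff] at hc
    obtain ⟨a, ha, hac⟩ := hc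
    rw [Set.mem_singleton_iff] at ha
    subst ha
    obtain ⟨d, hd⟩ := isConj_iff.mp hac
    rw [SetLike.mem_coe, Subgroup.mem_centralizer_iff]
    intro b hb
    rw [Set.mem_singleton_iff] at hb
    subst hb
    have h2 := h d⁻¹
    rw [inv_inv] at h2
    rw [← hd]; exact h2
  have h2 : Subgroup.normalClosure {z} = ⊤ := by
    rcases (Subgroup.normalClosure_normal (s := {z})).eq_bot_or_eq_top with h0 | h0
    · exfalso
      apply hz1
      have h3 : z ∈ Subgroup.normalClosure {z} := Subgroup.subset_normalClosure rfl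
      rw [h0] at h3
      exact Subgroup.mem_bot.mp h3
    · exact h0
  have h3 : z ∈ Subgroup.center G := by
    rw [Subgroup.mem_center_iff]
    intro a
    have h4 : a ∈ Subgroup.centralizer {z} := h1 (h2 ▸ Subgroup.mem_top a)
    rw [Subgroup.mem_centralizer_iff] at h4
    exact (h4 z rfl).symm
  have h4 : Subgroup.center G = ⊤ := by
    rcases (inferInstance : (Subgroup.center G).Normal).eq_bot_or_eq_top with h0 | h0
    · exfalso
      apply hz1
      rw [h0] at h3
      exact Subgroup.mem_bot.mp h3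
    · exact h0
  intro a b
  have h5 : a ∈ Subgroup.center G := h4 ▸ Subgroup.mem_top a
  exact (Subgroup.mem_center_iff.mp h5 b).symm

/-- transfer of the list of involutions of `C(x)` to `C(y)` for a conjugate `y` of `x` -/
theorem lemT (x y z g : G) (hx : orderOf x = 2) (hxy : x * y = y * x) (hne : x ≠ y)
    (hyg : y = g⁻¹ * x * g) (hzd : z = x * y)
    (hCx : ∀ u : G, orderOf u = 2 → x * u = u * x → u = x ∨ u = y ∨ u = z) :
    ∀ u : G, orderOf u = 2 → y * u = u * y → u = x ∨ u = y ∨ u = z := by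
  have hy : orderOf y = 2 := by rw [hyg, orderOf_conj']; exact hx
  have hy1 := H38.invol_of_orderOf hy
  have key : ∀ u : G, orderOf u = 2 → y * u = u * y →
      u = y ∨ u = g⁻¹ * y * g ∨ u = y * (g⁻¹ * y * g) := by
    intro u hu hyu
    have h1 : orderOf (g * u * g⁻¹) = 2 := by
      have := orderOf_conj' g⁻¹ u
      rw [inv_inv] at this
      rw [this]; exact hu
    have h2 : x * (g * u * g⁻¹) = (g * u * g⁻¹) * x := by
      have hx' : x = g * y * g⁻¹ := by rw [hyg]; group
      calc x * (g * u * g⁻¹) = g * (y * u) * g⁻¹ := by rw [hx']; group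
        _ = g * (u * y) * g⁻¹ := by rw [hyu]
        _ = (g * u * g⁻¹) * x := by rw [hx']; group
    rcases hCx _ h1 h2 with h3 | h3 | h3
    · left
      calc u = g⁻¹ * (g * u * g⁻¹) * g := by group
        _ = y := by rw [h3, hyg]
    · right; left
      calc u = g⁻¹ * (g * u * g⁻¹) * g := by group
        _ = g⁻¹ * y * g := by rw [h3]
    · right; right
      calc u = g⁻¹ * (g * u * g⁻¹) * g := by group
        _ = g⁻¹ * (x * y) * g := by rw [h3, hzd]
        _ = (g⁻¹ * x * g) * (g⁻¹ * y * g) := by group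
        _ = y * (g⁻¹ * y * g) := by rw [← hyg]
  rcases key x hx hxy.symm with h0 | h0 | h0
  · exact absurd h0 hne
  · intro u hu hyu
    rcases key u hu hyu with h1 | h1 | h1
    · exact Or.inr (Or.inl h1)
    · exact Or.inl (by rw [h1, ← h0])
    · exact Or.inr (Or.inr (by rw [h1, ← h0, hzd, hxy]))
  · have h2 : g⁻¹ * y * g = z := by
      calc g⁻¹ * y * g = y * (y * (g⁻¹ * y * g)) := by rw [← mul_assoc, hy1, one_mul]
        _ = y * x := by rw [← h0]
        _ = z := by rw [hzd, hxy]
    intro u hu hyu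
    rcases key u hu hyu with h1 | h1 | h1
    · exact Or.inr (Or.inl h1)
    · exact Or.inr (Or.inr (by rw [h1, h2]))
    · exact Or.inl (by rw [h1, ← h0])

theorem inv_cases [Finite G] (x y z : G)
    (h3 : Nat.card {u : ↥(Subgroup.centralizer ({x} : Set G)) // orderOf u = 2} ≤ 3)
    (hx : orderOf x = 2) (hy : orderOf y = 2) (hz : orderOf z = 2)
    (hxy : x * y = y * x) (hxz : x * z = z * x) (h1 : x ≠ y) (h2 : x ≠ z) (h4 : y ≠ z) :
    ∀ u : G, orderOf u = 2 → x * u = u * x → u = x ∨ u = y ∨ u = z := by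
  intro u hu hxu
  by_contra hcon
  push Not at hcon
  have hmem : ∀ v : G, x * v = v * x → v ∈ Subgroup.centralizer ({x} : Set G) := by
    intro v hv
    rw [Subgroup.mem_centralizer_iff]
    intro h hh
    rw [Set.mem_singleton_iff] at hh
    rw [hh]; exact hv
  let f : Fin 4 → {u : ↥(Subgroup.centralizer ({x} : Set G)) // orderOf u = 2} :=
    ![⟨⟨x, hmem x rfl⟩, by rw [Subgroup.orderOf_mk]; exact hx⟩,
      ⟨⟨y, hmem y hxy⟩, by rw [Subgroup.orderOf_mk]; exact hy⟩,
      ⟨⟨z, hmem z hxz⟩, by rw [Subgroup.orderOf_mk]; exact hz⟩,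
      ⟨⟨u, hmem u hxu⟩, by rw [Subgroup.orderOf_mk]; exact hu⟩]
  have hval : ∀ i : Fin 4, ((f i : ↥(Subgroup.centralizer ({x} : Set G))) : G) = ![x, y, z, u] i := by
    intro i
    fin_cases i <;> rfl
  have hf : Function.Injective f := by
    intro i j hij
    have h5 : ![x, y, z, u] i = ![x, y, z, u] j := by rw [← hval, ← hval, hij]
    fin_cases i <;> fin_cases j <;> simp at h5 ⊢ <;> tauto
  have h6 := Nat.card_le_card_of_injective f hf
  rw [Nat.card_fin] at h6
  omega

theorem isPGroup_two_zpowers {a : G} (ha : orderOf a = 2) : IsPGroup 2 (Subgroup.zpowers a) := by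
  rintro ⟨b, hb⟩
  obtain ⟨n, rfl⟩ := Subgroup.mem_zpowers_iff.mp hb
  refine ⟨1, Subtype.ext ?_⟩
  show (a ^ n) ^ 2 ^ 1 = 1
  rw [pow_one, ← zpow_natCast, ← zpow_mul, mul_comm, zpow_mul, zpow_natCast, ← ha,
    pow_orderOf_eq_one, one_zpow]

/-- Part 1: some Sylow `2`-subgroup lies in `C(x)`. -/
theorem exists_sylow_le [Finite G] [IsSimpleGroup G] (hnc : ¬ ∀ a b : G, a * b = b * a) (x : G)
    (hx : orderOf x = 2)
    (h3 : Nat.card {u : ↥(Subgroup.centralizer ({x} : Set G)) // orderOf u = 2} ≤ 3) :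
    ∃ S : Sylow 2 G, (S : Subgroup G) ≤ Subgroup.centralizer ({x} : Set G) := by
  classical
  by_contra hcon
  push Not at hcon
  set C : Subgroup G := Subgroup.centralizer ({x} : Set G) with hC
  have hmemC : ∀ g : G, g ∈ C ↔ x * g = g * x := by
    intro g
    rw [hC, Subgroup.mem_centralizer_iff]
    simp
  have hxC : x ∈ C := (hmemC x).mpr rfl
  have hx1 := H38.invol_of_orderOf hx
  have hxp : IsPGroup 2 (Subgroup.zpowers (⟨x, hxC⟩ : C)) :=
    isPGroup_two_zpowers (by rw [Subgroup.orderOf_mk]; exact hx)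
  obtain ⟨S₀, hS₀⟩ := hxp.exists_le_sylow
  set S : Subgroup G := (S₀ : Subgroup C).map C.subtype with hS
  have hSC : S ≤ C := by
    rintro _ ⟨c, -, rfl⟩
    exact c.2
  have hxS : x ∈ S := ⟨⟨x, hxC⟩, hS₀ (Subgroup.mem_zpowers _), rfl⟩
  have hSp : IsPGroup 2 S := S₀.isPGroup'.map _
  obtain ⟨T, hT⟩ := hSp.exists_le_sylow
  have hTC : (T : Subgroup G) ⊓ C ≤ S := by
    have h1 : IsPGroup 2 (((T : Subgroup G) ⊓ C).subgroupOf C) := by
      rw [← Subgroup.comap_subtype]
      exact (T.isPGroup'.to_le inf_le_left).comap_subtype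
    have h2 : (S₀ : Subgroup C) ≤ ((T : Subgroup G) ⊓ C).subgroupOf C := by
      intro c hc
      rw [Subgroup.mem_subgroupOf]
      exact ⟨hT ⟨c, hc, rfl⟩, c.2⟩
    have h4 := S₀.is_maximal' h1 h2
    intro a ha
    have h5 : (⟨a, ha.2⟩ : C) ∈ ((T : Subgroup G) ⊓ C).subgroupOf C := by
      rw [Subgroup.mem_subgroupOf]; exact ha
    rw [h4] at h5
    exact ⟨⟨a, ha.2⟩, h5, rfl⟩
  have hlt : S < (T : Subgroup G) := lt_of_le_of_ne hT (fun h => hcon T (h ▸ hSC))
  obtain ⟨n₀, hn₀T, hn₀N, hn₀S⟩ :=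
    Cfsg.Agent.H12.exists_mem_normalizer_not_mem_of_lt (T.isPGroup'.isNilpotent) hlt
  obtain ⟨n, hnT, hnN, hnS, hn2⟩ : ∃ n ∈ (T : Subgroup G),
      n ∈ Subgroup.normalizer (S : Set G) ∧ n ∉ S ∧ n * n ∈ S := by
    obtain ⟨k, hk⟩ := T.isPGroup' ⟨n₀, hn₀T⟩
    have hk' : n₀ ^ 2 ^ k = 1 := by simpa using congrArg Subtype.val hk
    have hex : ∃ j, n₀ ^ 2 ^ j ∈ S := ⟨k, hk' ▸ S.one_mem⟩
    have hj : n₀ ^ 2 ^ (Nat.find hex) ∈ S := Nat.find_spec hex
    have hj0 : Nat.find hex ≠ 0 := by
      intro h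
      rw [h] at hj
      apply hn₀S
      simpa using hj
    obtain ⟨i, hi⟩ := Nat.exists_eq_succ_of_ne_zero hj0
    refine ⟨n₀ ^ 2 ^ i, Subgroup.pow_mem _ hn₀T _, Subgroup.pow_mem _ hn₀N _,
      Nat.find_min hex (by omega), ?_⟩
    rw [← pow_add, ← two_mul, ← pow_succ', ← Nat.succ_eq_add_one, ← hi]
    exact hj
  have hnC : n ∉ C := fun h => hnS (hTC ⟨hnT, h⟩)
  have hnorm : ∀ s ∈ S, n⁻¹ * s * n ∈ S := by
    intro s hs
    have h1 := (Subgroup.mem_normalizer_iff.mp (Subgroup.inv_mem _ hnN) s).mp hs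
    simpa using h1
  have hnorm' : ∀ s ∈ S, n * s * n⁻¹ ∈ S := by
    intro s hs
    exact (Subgroup.mem_normalizer_iff.mp hnN s).mp hs
  set y := n⁻¹ * x * n with hy
  have hyS : y ∈ S := hnorm x hxS
  have hyC : y ∈ C := hSC hyS
  have hxy : x * y = y * x := (hmemC y).mp hyC
  have hy2 : orderOf y = 2 := by rw [hy, orderOf_conj']; exact hx
  have hy1 := H38.invol_of_orderOf hy2
  have hne : x ≠ y := by
    intro h
    apply hnC
    rw [hmemC]
    calc x * n = n * (n⁻¹ * x * n) := by group
      _ = n * x := by rw [← hy, ← h]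
  obtain ⟨z, hz⟩ : ∃ z : G, z = x * y := ⟨_, rfl⟩
  have hz2 : orderOf z = 2 := by rw [hz]; exact orderOf_mul_two hx hy2 hxy hne
  have hxz : x * z = z * x := by
    rw [hz, ← mul_assoc, hx1, one_mul, mul_assoc, ← hxy, ← mul_assoc, hx1, one_mul]
  have hxz' : x ≠ z := by
    intro h
    rw [hz] at h
    exact ne_one_of_two hy2 (left_eq_mul.mp h)
  have hyz : y ≠ z := by
    intro h
    rw [hz] at h
    exact ne_one_of_two hx (right_eq_mul.mp h)
  have hCx := inv_cases x y z h3 hx hy2 hz2 hxy hxz hne hxz' hyz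
  have hCy := lemT x y z n hx hxy hne rfl hz hCx
  have hny : n⁻¹ * y * n = x := by
    have h1 : n * n ∈ C := hSC hn2
    have h2 := (hmemC _).mp h1
    calc n⁻¹ * y * n = (n * n)⁻¹ * (x * (n * n)) := by rw [hy]; group
      _ = (n * n)⁻¹ * ((n * n) * x) := by rw [h2]
      _ = x := by group
  have hnz : n * z = z * n := by
    have h1 : n⁻¹ * z * n = z := by
      calc n⁻¹ * z * n = (n⁻¹ * x * n) * (n⁻¹ * y * n) := by rw [hz]; group
        _ = z := by rw [hny, ← hy, hz, hxy]
    calc n * z = n * (n⁻¹ * z * n) := by rw [h1]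
      _ = z * n := by group
  have hzx : ¬ IsConj z x := by
    intro hconj
    obtain ⟨g, hg⟩ := isConj_iff.mp hconj
    set R : Subgroup G := S ⊔ Subgroup.zpowers n with hR
    have hRT : R ≤ (T : Subgroup G) := sup_le hT (by
      rw [Subgroup.zpowers_le]; exact hnT)
    have hRz : R ≤ Subgroup.centralizer ({z} : Set G) := by
      apply sup_le
      · intro s hs
        rw [Subgroup.mem_centralizer_iff]
        intro h hh
        rw [Set.mem_singleton_iff] at hh
        subst hh
        have h1 : x * s = s * x := (hmemC s).mp (hSC hs)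
        have h2 : y * s = s * y := by
          have h3 : x * (n * s * n⁻¹) = (n * s * n⁻¹) * x := (hmemC _).mp (hSC (hnorm' s hs))
          calc y * s = n⁻¹ * (x * (n * s * n⁻¹)) * n := by rw [hy]; group
            _ = n⁻¹ * ((n * s * n⁻¹) * x) * n := by rw [h3]
            _ = s * y := by rw [hy]; group
        rw [hz, mul_assoc, h2, ← mul_assoc, h1, mul_assoc]
      · rw [Subgroup.zpowers_le, Subgroup.mem_centralizer_iff]
        intro h hh
        rw [Set.mem_singleton_iff] at hh
        subst hh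
        exact hnz.symm
    have hSR : S < R := by
      refine lt_of_le_of_ne le_sup_left ?_
      intro h
      apply hnS
      rw [h]
      exact Subgroup.mem_sup_right (Subgroup.mem_zpowers n)
    set R' : Subgroup G := R.map (MulAut.conj g).toMonoidHom with hR'
    have hR'C : R' ≤ C := by
      rintro _ ⟨r, hr, rfl⟩
      rw [hmemC]
      have h1 := hRz hr
      rw [Subgroup.mem_centralizer_iff] at h1
      have h2 := h1 z rfl
      show x * (g * r * g⁻¹) = (g * r * g⁻¹) * x
      calc x * (g * r * g⁻¹) = g * (z * r) * g⁻¹ := by rw [← hg]; group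
        _ = g * (r * z) * g⁻¹ := by rw [h2]
        _ = (g * r * g⁻¹) * x := by rw [← hg]; group
    have hR'p : IsPGroup 2 R' := (T.isPGroup'.to_le hRT).map _
    have hcardR' : Nat.card R' = Nat.card R :=
      Subgroup.card_map_of_injective (MulAut.conj g).injective
    have hR''p : IsPGroup 2 (R'.subgroupOf C) := by
      rw [← Subgroup.comap_subtype]; exact hR'p.comap_subtype
    obtain ⟨Q₀, hQ₀⟩ := hR''p.exists_le_sylow
    have h1 : Nat.card (R'.subgroupOf C) ≤ Nat.card Q₀ := Subgroup.card_le_of_le hQ₀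
    have h2 : Nat.card (R'.subgroupOf C) = Nat.card R' :=
      Nat.card_congr (Subgroup.subgroupOfEquivOfLe hR'C).toEquiv
    have h4 : Nat.card Q₀ = Nat.card S₀ := by
      rw [Sylow.card_eq_multiplicity, Sylow.card_eq_multiplicity]
    have h5 : Nat.card S = Nat.card S₀ :=
      Subgroup.card_map_of_injective (Subgroup.subtype_injective C)
    have h6 : Nat.card R ≤ Nat.card S := by
      rw [h5, ← h4, ← hcardR', ← h2]; exact h1
    exact absurd (Subgroup.eq_of_le_of_card_ge hSR.le h6) hSR.ne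
  have hzy : ¬ IsConj z y := by
    intro h
    apply hzx
    refine h.trans (isConj_iff.mpr ⟨n, ?_⟩)
    rw [hy]; group
  have hcomm := lemK x y z hx hy2 hz2 hz hxy hCx hCy hzx hzy
  exact hnc (comm_of_conj_commute z (ne_one_of_two hz2) hcomm)

/-- Part 2: all involutions are conjugate to `x`. -/
theorem all_conj [Finite G] [IsSimpleGroup G] (hnc : ¬ ∀ a b : G, a * b = b * a) (x : G)
    (hx : orderOf x = 2)
    (h3 : Nat.card {u : ↥(Subgroup.centralizer ({x} : Set G)) // orderOf u = 2} ≤ 3)
    (T : Sylow 2 G) (hT : (T : Subgroup G) ≤ Subgroup.centralizer ({x} : Set G)) :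
    ∀ u : G, orderOf u = 2 → IsConj u x := by
  classical
  set C : Subgroup G := Subgroup.centralizer ({x} : Set G) with hC
  have hmemC : ∀ g : G, g ∈ C ↔ x * g = g * x := by
    intro g
    rw [hC, Subgroup.mem_centralizer_iff]
    simp
  have hx1 := H38.invol_of_orderOf hx
  -- Z*: `x` is not weakly closed in `T`
  have hex : ∃ g : G, g * x * g⁻¹ ∈ (T : Subgroup G) ∧ g * x * g⁻¹ ≠ x := by
    by_contra hcon
    push Not at hcon
    obtain ⟨N, hN, hodd, hNx⟩ := Cfsg.Agent.H24.ZStar.zstar_sylow' T x hx hcon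
    rcases hN.eq_bot_or_eq_top with h | h
    · apply hnc
      apply comm_of_conj_commute x (ne_one_of_two hx)
      intro g
      have h1 : x * g * x⁻¹ * g⁻¹ = 1 := by
        have := hNx g
        rw [h] at this
        exact Subgroup.mem_bot.mp this
      have h2 : x * g = g * x := by
        calc x * g = (x * g * x⁻¹ * g⁻¹) * (g * x) := by group
          _ = g * x := by rw [h1, one_mul]
      have h4 : g⁻¹ * x * g = x := by
        calc g⁻¹ * x * g = g⁻¹ * (x * g) := by group
          _ = x := by rw [h2]; group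
      rw [h4]
    · have h1 : Nat.card N = Nat.card G := by
        rw [h]; exact Subgroup.card_top
      rw [h1] at hodd
      have h2 : orderOf x ∣ Nat.card G := orderOf_dvd_natCard x
      rw [hx] at h2
      exact (Nat.not_even_iff_odd.mpr hodd) (even_iff_two_dvd.mpr h2)
  obtain ⟨g, hgT, hgx⟩ := hex
  obtain ⟨y, hy⟩ : ∃ y : G, y = g * x * g⁻¹ := ⟨_, rfl⟩
  rw [← hy] at hgT hgx
  have hy' : y = (g⁻¹)⁻¹ * x * g⁻¹ := by rw [hy, inv_inv]
  have hyC : y ∈ C := hT hgT
  have hxy : x * y = y * x := (hmemC y).mp hyC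
  have hy2 : orderOf y = 2 := by rw [hy', orderOf_conj']; exact hx
  have hne : x ≠ y := fun h => hgx h.symm
  obtain ⟨z, hz⟩ : ∃ z : G, z = x * y := ⟨_, rfl⟩
  have hz2 : orderOf z = 2 := by rw [hz]; exact orderOf_mul_two hx hy2 hxy hne
  have hxz : x * z = z * x := by
    rw [hz, ← mul_assoc, hx1, one_mul, mul_assoc, ← hxy, ← mul_assoc, hx1, one_mul]
  have hxz' : x ≠ z := by
    intro h
    rw [hz] at h
    exact ne_one_of_two hy2 (left_eq_mul.mp h)
  have hyz : y ≠ z := by
    intro h
    rw [hz] at h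
    exact ne_one_of_two hx (right_eq_mul.mp h)
  have hCx := inv_cases x y z h3 hx hy2 hz2 hxy hxz hne hxz' hyz
  have hCy := lemT x y z g⁻¹ hx hxy hne hy' hz hCx
  have hyx : IsConj y x := isConj_iff.mpr ⟨g⁻¹, by rw [hy]; group⟩
  have hzx : IsConj z x := by
    by_contra hzx
    have hzy : ¬ IsConj z y := fun h => hzx (h.trans hyx)
    exact hnc (comm_of_conj_commute z (ne_one_of_two hz2)
      (lemK x y z hx hy2 hz2 hz hxy hCx hCy hzx hzy))
  intro u hu
  obtain ⟨Q, hQ⟩ := (isPGroup_two_zpowers hu).exists_le_sylow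
  obtain ⟨h, hh⟩ := MulAction.exists_smul_eq G T Q
  have h1 : u ∈ (Q : Subgroup G) := hQ (Subgroup.mem_zpowers u)
  rw [← hh] at h1
  have h2 : u ∈ MulAut.conj h • (T : Subgroup G) := h1
  rw [Subgroup.mem_pointwise_smul_iff_inv_smul_mem] at h2
  have h4 : h⁻¹ * u * h ∈ (T : Subgroup G) := by
    have h5 : (MulAut.conj h)⁻¹ • u = h⁻¹ * u * h := by
      rw [← map_inv, MulAut.smul_def, MulAut.conj_apply, inv_inv]
    rw [h5] at h2; exact h2
  have h6 : orderOf (h⁻¹ * u * h) = 2 := by rw [orderOf_conj']; exact hu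
  have h7 : IsConj u (h⁻¹ * u * h) := isConj_iff.mpr ⟨h⁻¹, by rw [inv_inv]⟩
  rcases hCx _ h6 ((hmemC _).mp (hT h4)) with e | e | e
  · rw [e] at h7; exact h7
  · rw [e] at h7; exact h7.trans hyx
  · rw [e] at h7; exact h7.trans hzx

/-- **S3279.** -/
theorem three_inv [Finite G] [IsSimpleGroup G] (x : G) (hx : orderOf x = 2)
    (h3 : Nat.card {u : ↥(Subgroup.centralizer ({x} : Set G)) // orderOf u = 2} ≤ 3) :
    (∃ S : Sylow 2 G, (S : Subgroup G) ≤ Subgroup.centralizer ({x} : Set G)) ∧
      ∀ u v : G, orderOf u = 2 → orderOf v = 2 → IsConj u v := by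
  classical
  by_cases hc : ∀ a b : G, a * b = b * a
  · constructor
    · obtain ⟨S⟩ : Nonempty (Sylow 2 G) := inferInstance
      refine ⟨S, fun s _ => ?_⟩
      rw [Subgroup.mem_centralizer_iff]
      intro h hh
      exact hc h s
    · intro u v hu hv
      have hn : (Subgroup.zpowers u).Normal := ⟨fun a ha b => by
        rw [hc b a, mul_inv_cancel_right]; exact ha⟩
      rcases hn.eq_bot_or_eq_top with h | h
      · exfalso
        have h1 : u ∈ Subgroup.zpowers u := Subgroup.mem_zpowers u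
        rw [h] at h1
        exact ne_one_of_two hu (Subgroup.mem_bot.mp h1)
      · have h1 : v ∈ Subgroup.zpowers u := h ▸ Subgroup.mem_top v
        obtain ⟨k, hk⟩ := Subgroup.mem_zpowers_iff.mp h1
        have h2 : u ^ (k % (2 : ℤ)) = v := by
          have := zpow_mod_orderOf u k
          rw [hu] at this
          rw [← hk]; exact_mod_cast this
        have h4 : k % (2 : ℤ) = 0 ∨ k % (2 : ℤ) = 1 := by omega
        rcases h4 with h5 | h5
        · rw [h5, zpow_zero] at h2
          exact absurd h2.symm (ne_one_of_two hv)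
        · rw [h5, zpow_one] at h2
          rw [h2]
  · obtain ⟨T, hT⟩ := exists_sylow_le hc x hx h3
    refine ⟨⟨T, hT⟩, ?_⟩
    intro u v hu hv
    exact (all_conj hc x hx h3 T hT u hu).trans (all_conj hc x hx h3 T hT v hv).symm

end Cfsg.Agent.H12.ThreeInv
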