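import Mathlib
import Cfsg.Agent.H77.TmDefs2
import Cfsg.Agent.H49.InvOmega

/-!
# S5987 (team project, helper77): common setup for the structure pieces TM-MODD / TM-MEVEN
(an isometry of the minus-type form as a quadratic context; sums of orthogonal totally singular
subspaces).
-/

set_option autoImplicit false
open scoped MatrixGroups
open scoped Matrix

namespace Cfsg.Agent.H12.Tm

open Cfsg.Agent.H45 Cfsg.Agent.H42.Spd Cfsg.Agent.H42.Ti Cfsg.Agent.H77.Tq Cfsg.Agent.H77.Tm
  Module Polynomial

universe u v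

theorem toLin'_pow_eq {ι : Type} [Fintype ι] [DecidableEq ι] {F : Type u} [Field F]
    (M : Matrix ι ι F) (n : ℕ) : Matrix.toLin' (M ^ n) = (Matrix.toLin' M) ^ n := by
  induction n with
  | zero => rw [pow_zero, pow_zero, Matrix.toLin'_one]; rfl
  | succ n ih => rw [pow_succ, pow_succ, Matrix.toLin'_mul, ih]; rfl

/-- an isometry of order dividing `r` of the minus-type form is a quadratic context -/
theorem qctx_of_isom (F : Type u) [Field F] [Fintype F] (p : ℕ) [Fact p.Prime] [CharP F p]
    (k : ℕ) (a b : F) (r : ℕ) (hab : Aniso a b) (hr : r.Prime) (hr2 : r ≠ 2) (hrp : r ≠ p)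
    (y : GL (MI k) F) (hy : y ∈ Cfsg.isometryGroup F (Cfsg.quadFormMinus k F a b))
    (hyr : y ^ r = 1) :
    QCtx r (Cfsg.Agent.H49.QMin k F a b) (Matrix.toLin' (y : Matrix (MI k) (MI k) F)) where
  prime := hr
  ne_two := hr2
  cast_ne := by
    intro h
    have h1 : p ∣ r := (CharP.cast_eq_zero_iff F p r).mp h
    exact hrp ((Nat.prime_dvd_prime_iff_eq (Fact.out : p.Prime) hr).mp h1).symm
  nondeg := by
    intro x hx
    have hnd := Cfsg.Agent.H49.QMin_nondeg k a b
      (Cfsg.Agent.H49.disc_ne_zero_of_aniso a b hab)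
    exact hnd.1 x hx
  isom := by
    intro x
    have h := hy x x
    exact h
  pow := by
    rw [← toLin'_pow_eq]
    have h := congrArg (fun g : GL (MI k) F => (g : Matrix (MI k) (MI k) F)) hyr
    simp only [Units.val_pow_eq_pow_val, Units.val_one] at h
    rw [h, Matrix.toLin'_one]
    rfl

/-- the sum of two orthogonal totally singular subspaces is totally singular -/
theorem ts_sup {F : Type u} [Field F] {V : Type v} [AddCommGroup V] [Module F V]
    (Q : QuadraticForm F V) (X Y : Submodule F V) (hX : TS Q X) (hY : TS Q Y)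
    (h : ∀ x ∈ X, ∀ y ∈ Y, QuadraticMap.polar ⇑Q x y = 0) : TS Q (X ⊔ Y) := by
  intro z hz
  obtain ⟨x, hx, y, hy, rfl⟩ := Submodule.mem_sup.mp hz
  rw [QuadraticMap.map_add Q x y, hX x hx, hY y hy, h x hx y hy]
  simp

/-- the dimension of a direct sum -/
theorem finrank_sup_of_inf {F : Type u} [Field F] {V : Type v} [AddCommGroup V] [Module F V]
    [FiniteDimensional F V] (X Y : Submodule F V) (h : X ⊓ Y = ⊥) :
    finrank F ↥(X ⊔ Y) = finrank F ↥X + finrank F ↥Y := by
  have h1 := Submodule.finrank_sup_add_finrank_inf_eq X Y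
  rw [h, finrank_bot] at h1
  omega

/-- `c = 2 i` for `i` odd -/
theorem cc_of_odd {F : Type u} [Fintype F] {r : ℕ} (h : Odd (ii F r)) : cc F r = 2 * ii F r := by
  unfold cc
  unfold ii at h
  rw [if_neg (Nat.not_even_iff_odd.mpr h)]
  rfl

/-- `c = i` for `i` even -/
theorem cc_of_even {F : Type u} [Fintype F] {r : ℕ} (h : Even (ii F r)) : cc F r = ii F r := by
  unfold cc
  unfold ii at h
  rw [if_pos h]
  rfl

/-- the dimension of the minus-type space -/
theorem finrank_MI (F : Type u) [Field F] (k : ℕ) : finrank F (MI k → F) = 2 * k + 2 := by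
  rw [Module.finrank_pi]
  simp
  ring

/-- rank-nullity for `T - 1` on the minus-type space -/
theorem ker_add_range (F : Type u) [Field F] (k : ℕ) (T : Module.End F (MI k → F)) :
    finrank F ↥(LinearMap.ker (T - 1)) + finrank F ↥(LinearMap.range (T - 1)) = 2 * k + 2 := by
  rw [add_comm, LinearMap.finrank_range_add_finrank_ker, finrank_MI]

/-- a totally singular subspace of the minus-type space has dimension at most `k` -/
theorem ts_le (F : Type u) [Field F] [Fintype F] (k : ℕ) (a b : F) (hab : Aniso a b)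
    (W : Submodule F (MI k → F)) (hW : TS (Cfsg.Agent.H49.QMin k F a b) W) :
    finrank F ↥W ≤ k :=
  Cfsg.Agent.H49.QMin_ts_le k a b hab (Cfsg.Agent.H49.disc_ne_zero_of_aniso a b hab) W hW

end Cfsg.Agent.H12.Tm
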