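import Mathlib
import Cfsg.Agent.H77.TmDefs2
import Cfsg.Agent.H49.InvOmega
import Cfsg.Agent.H14.OtDefs
import Cfsg.Agent.H12.TmMBase

/-!
# S5987 (team project, helper77): piece TM-MEVEN — the invariant totally singular subspaces of an
isometry of odd prime order `r ≠ p` of the minus-type space, `i = ord_r(q)` even.
-/

set_option autoImplicit false
open scoped MatrixGroups
open scoped Matrix

namespace Cfsg.Agent.H12.Tm

open Cfsg.Agent.H45 Cfsg.Agent.H42.Spd Cfsg.Agent.H42.Ti Cfsg.Agent.H77.Tq Cfsg.Agent.H77.Tm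
  Module Polynomial

universe u v

/-- a totally singular subspace is totally isotropic for the polar form -/
theorem ti_of_ts {F : Type u} [Field F] {V : Type v} [AddCommGroup V] [Module F V]
    (Q : QuadraticForm F V) (X : Submodule F V) (hX : TS Q X) : TI (pol Q) X := by
  intro x hx z hz
  show QuadraticMap.polar ⇑Q x z = 0
  unfold QuadraticMap.polar
  rw [hX _ (X.add_mem hx hz), hX x hx, hX z hz]
  simp

/-- a totally singular subspace of a nondegenerate subspace has at most half its dimension -/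
theorem ts_half (hHalf : Cfsg.Agent.H14.Ot.StOHalf.{u, v}) {F : Type u} [Field F] {V : Type v}
    [AddCommGroup V] [Module F V] [FiniteDimensional F V] (Q : QuadraticForm F V)
    (K X : Submodule F V) (hK : K ⊓ perp (pol Q) K = ⊥) (hXK : X ≤ K) (hX : TS Q X) :
    2 * finrank F ↥X ≤ finrank F ↥K :=
  hHalf F V (pol Q) (fun x y => QuadraticMap.polar_comm ⇑Q x y) K X hK hXK (ti_of_ts Q X hX)

theorem mEven (hQS : StQStruct.{u, u}) (hW : StQWitt.{u, u}) (hTU : StTypeU.{u, u})
    (hMS : StMinusSum.{u, u}) (hHalf : Cfsg.Agent.H14.Ot.StOHalf.{u, u}) : StMEven.{u} := by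
  intro F _ _ p _ _ k a b r hab hr hr2 hrp heven Φs hΦ y hy hyr
  have hctx := qctx_of_isom F p k a b r hab hr hr2 hrp y hy hyr
  generalize hT : Matrix.toLin' (y : Matrix (MI k) (MI k) F) = T at hctx
  obtain ⟨⟨hinf, hsup, horth, hCnd, hUnd⟩, ⟨A, hA⟩, hstr, hex⟩ :=
    hQS F (MI k → F) r (Cfsg.Agent.H49.QMin k F a b) T hctx
  obtain ⟨h, hh⟩ : ∃ h, ii F r = 2 * h := ⟨ii F r / 2, (Nat.two_mul_div_two_of_even heven).symm⟩
  have hdiv : ii F r / 2 = h := by omega
  have hdimU : finrank F ↥(LinearMap.range (T - 1)) = 2 * (h * A) := by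
    rw [hA, cc_of_even heven, hh, mul_assoc]
  have hdimU' : finrank F ↥(LinearMap.range (T - 1)) = ii F r * A := by
    rw [hA, cc_of_even heven]
  have hdimV := ker_add_range F k T
  have hnodd : ¬ Odd (ii F r) := Nat.not_odd_iff_even.mpr heven
  obtain ⟨hTUe, hTUo⟩ := hTU F (MI k → F) r (Cfsg.Agent.H49.QMin k F a b) T hctx heven A hdimU'
  have horth' : ∀ X Y : Submodule F (MI k → F), X ≤ LinearMap.ker (T - 1) →
      Y ≤ LinearMap.range (T - 1) → ∀ x ∈ X, ∀ z ∈ Y,
      QuadraticMap.polar ⇑(Cfsg.Agent.H49.QMin k F a b) x z = 0 :=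
    fun X Y hX hY x hx z hz => horth x (hX hx) z (hY hz)
  have hinf' : ∀ X Y : Submodule F (MI k → F), X ≤ LinearMap.ker (T - 1) →
      Y ≤ LinearMap.range (T - 1) → X ⊓ Y = ⊥ := by
    intro X Y hX hY
    rw [eq_bot_iff]
    intro z hz
    rw [← hinf]
    exact ⟨hX hz.1, hY hz.2⟩
  -- for `A` even: a half-dimensional totally singular subspace of `U`
  have hLe : Even A → ∃ L : Submodule F (MI k → F), L ≤ LinearMap.range (T - 1) ∧
      TS (Cfsg.Agent.H49.QMin k F a b) L ∧ finrank F ↥L = h * A := by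
    intro hAe
    obtain ⟨L, hLU, hLts, hLdim⟩ := hTUe hAe
    exact ⟨L, hLU, hLts, by omega⟩
  -- every totally singular subspace of `C` is small
  have hCsmall : ∀ J : Submodule F (MI k → F), J ≤ LinearMap.ker (T - 1) →
      TS (Cfsg.Agent.H49.QMin k F a b) J →
      finrank F ↥J + h * A + (if Even A then 1 else 0) ≤ k + 1 := by
    intro J hJC hJts
    by_cases hAe : Even A
    · rw [if_pos hAe]
      obtain ⟨L, hLU, hLts, hLdim⟩ := hLe hAe
      have hts : TS (Cfsg.Agent.H49.QMin k F a b) (J ⊔ L) :=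
        ts_sup _ _ _ hJts hLts (horth' _ _ hJC hLU)
      have h1 := ts_le F k a b hab _ hts
      rw [finrank_sup_of_inf _ _ (hinf' _ _ hJC hLU), hLdim] at h1
      omega
    · rw [if_neg hAe]
      have h1 : 2 * finrank F ↥J ≤ finrank F ↥(LinearMap.ker (T - 1)) :=
        ts_half hHalf (Cfsg.Agent.H49.QMin k F a b) _ J hCnd hJC hJts
      omega
  -- existence of totally singular subspaces of `C`
  have hCex : ∀ w : ℕ, w + h * A + (if Even A then 1 else 0) ≤ k + 1 →
      ∃ J : Submodule F (MI k → F), J ≤ LinearMap.ker (T - 1) ∧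
        TS (Cfsg.Agent.H49.QMin k F a b) J ∧ finrank F ↥J = w := by
    intro w hw
    by_cases hlt : 2 * w + 1 ≤ finrank F ↥(LinearMap.ker (T - 1))
    · exact hW F (MI k → F) (Cfsg.Agent.H49.QMin k F a b) (LinearMap.ker (T - 1)) w hCnd hlt
    · have hAo : ¬ Even A := by
        intro hAe
        rw [if_pos hAe] at hw
        omega
      rw [if_neg hAo] at hw
      have hweq : finrank F ↥(LinearMap.ker (T - 1)) = 2 * w := by omega
      by_contra hno
      have hC2 : ∀ X : Submodule F (MI k → F), X ≤ LinearMap.ker (T - 1) →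
          TS (Cfsg.Agent.H49.QMin k F a b) X → finrank F ↥X < w := by
        intro X hXC hXts
        have h1 : 2 * finrank F ↥X ≤ finrank F ↥(LinearMap.ker (T - 1)) :=
          ts_half hHalf (Cfsg.Agent.H49.QMin k F a b) _ X hCnd hXC hXts
        have h2 : finrank F ↥X ≠ w := fun h2 => hno ⟨X, hXC, hXts, h2⟩
        omega
      have hU2 : ∀ X : Submodule F (MI k → F), X ≤ LinearMap.range (T - 1) →
          TS (Cfsg.Agent.H49.QMin k F a b) X → finrank F ↥X < h * A := by
        intro X hXU hXts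
        have h1 := hTUo (Nat.not_even_iff_odd.mp hAo) X hXU hXts
        omega
      obtain ⟨M, -, hMts, hMdim⟩ := hMS F (MI k → F) (Cfsg.Agent.H49.QMin k F a b)
        (LinearMap.ker (T - 1)) (LinearMap.range (T - 1)) w (h * A) hCnd hUnd horth hweq hdimU
        hC2 hU2
      have h1 := ts_le F k a b hab M hMts
      omega
  refine ⟨A, ?_, ?_, ?_, ?_⟩
  · show finrank F ↥(LinearMap.ker (Matrix.toLin' (y : Matrix (MI k) (MI k) F) - 1)) +
      ii F r * A = 2 * k + 2
    rw [hT, ← hdimU']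
    exact hdimV
  · intro hAe
    rw [hdiv]
    obtain ⟨L, hLU, hLts, hLdim⟩ := hLe hAe
    rw [← hLdim]
    exact ts_le F k a b hab L hLts
  · intro j w hj hwk
    rw [hdiv] at hwk
    obtain ⟨WU, hWU, hWUinv, hWUts, hWUdim⟩ :=
      hex j (fun ho => absurd ho hnodd) (fun _ => by
        rcases hj with hj | hj
        · exact Or.inl hj
        · right
          rw [hdimU']
          exact Nat.mul_le_mul_left _ (by omega))
    obtain ⟨J, hJC, hJts, hJdim⟩ := hCex w hwk
    refine ⟨J ⊔ WU, ⟨?_, ?_⟩, ?_⟩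
    · rw [finrank_sup_of_inf J WU (hinf' J WU hJC hWU), hJdim, hWUdim, add_comm]
    · have hts := ts_sup (Cfsg.Agent.H49.QMin k F a b) J WU hJts hWUts (horth' J WU hJC hWU)
      exact fun z hz => hts z hz
    · rw [hT, Submodule.map_le_iff_le_comap]
      intro z hz
      obtain ⟨x, hx, u, hu, rfl⟩ := Submodule.mem_sup.mp hz
      rw [Submodule.mem_comap, map_add]
      have hx' : T x = x := by
        have h1 := hJC hx
        rw [LinearMap.mem_ker, LinearMap.sub_apply, Module.End.one_apply, sub_eq_zero] at h1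
        exact h1
      rw [hx']
      have hu' : T u ∈ WU := (Module.End.mem_invtSubmodule _).mp hWUinv hu
      exact Submodule.add_mem _ (Submodule.mem_sup_left hx) (Submodule.mem_sup_right hu')
  · intro W hWts hWinv
    have hWinv' : W ∈ Module.End.invtSubmodule T := by
      rw [Module.End.mem_invtSubmodule]
      exact Submodule.map_le_iff_le_comap.mp hWinv
    obtain ⟨s, hs, -, hs3⟩ := hstr W hWinv' (fun z hz => hWts z hz)
    refine ⟨s, finrank F ↥(W ⊓ LinearMap.ker (T - 1)), by rw [hs, add_comm], ?_, ?_⟩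
    · have h1 := hs3 heven Φs hΦ
      show s ≤ ∑ φ ∈ Φs, finrank F ↥(LinearMap.ker
        (aeval (Matrix.toLin' (y : Matrix (MI k) (MI k) F)) φ)) / (2 * ii F r)
      rw [hT]
      exact h1
    · rw [hdiv]
      exact hCsmall _ inf_le_right (fun z hz => hWts z hz.1)

example : StMEven.{u} =
    (∀ (F : Type u) [Field F] [Fintype F] (p : ℕ) [Fact p.Prime] [CharP F p] (k : ℕ) (a b : F)
    (r : ℕ), Aniso a b → r.Prime → r ≠ 2 → r ≠ p → Even (ii F r) →
    ∀ Φs : Finset F[X], IsCycSet F r Φs →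
    ∀ y : GL (MI k) F, y ∈ Cfsg.isometryGroup F (Cfsg.quadFormMinus k F a b) → y ^ r = 1 →
    ∃ A : ℕ, fixDim k y + ii F r * A = 2 * k + 2 ∧ (Even A → ii F r / 2 * A ≤ k) ∧
      (∀ j w : ℕ, (j = 0 ∨ (r - 1) / ii F r + 2 * j ≤ A + 1) →
        w + ii F r / 2 * A + (if Even A then 1 else 0) ≤ k + 1 →
        FixM k a b (ii F r * j + w) y) ∧
      (∀ W : Submodule F (MI k → F),
        Cfsg.Geo.IsTotallySingularQuad (Cfsg.quadFormMinus k F a b) W →
        W.map (Matrix.toLin' (y : Matrix (MI k) (MI k) F)) ≤ W →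
        ∃ j w : ℕ, Module.finrank F ↥W = ii F r * j + w ∧ j ≤ sDim k r Φs y ∧
          w + ii F r / 2 * A + (if Even A then 1 else 0) ≤ k + 1)) :=
  rfl

end Cfsg.Agent.H12.Tm
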