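import Mathlib
import Cfsg.Agent.H77.TmDefs2
import Cfsg.Agent.H49.InvOmega
import Cfsg.Agent.H12.TmMBase

/-!
# S5987 (team project, helper77): piece TM-MODD — the invariant totally singular subspaces of an
isometry of odd prime order `r ≠ p` of the minus-type space, `i = ord_r(q)` odd.
-/

set_option autoImplicit false
open scoped MatrixGroups
open scoped Matrix

namespace Cfsg.Agent.H12.Tm

open Cfsg.Agent.H45 Cfsg.Agent.H42.Spd Cfsg.Agent.H42.Ti Cfsg.Agent.H77.Tq Cfsg.Agent.H77.Tm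
  Module Polynomial

universe u

theorem mOdd (hQS : StQStruct.{u, u}) (hW : StQWitt.{u, u}) : StMOdd.{u} := by
  intro F _ _ p _ _ k a b r hab hr hr2 hrp hodd y hy hyr
  have hctx := qctx_of_isom F p k a b r hab hr hr2 hrp y hy hyr
  generalize hT : Matrix.toLin' (y : Matrix (MI k) (MI k) F) = T at hctx
  obtain ⟨⟨hinf, hsup, horth, hCnd, hUnd⟩, ⟨s₀, hs₀⟩, hstr, hex⟩ :=
    hQS F (MI k → F) r (Cfsg.Agent.H49.QMin k F a b) T hctx
  have hi : 0 < ii F r := hodd.pos
  have hdimU : finrank F ↥(LinearMap.range (T - 1)) = 2 * (ii F r * s₀) := by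
    rw [hs₀, cc_of_odd hodd, mul_assoc]
  have hdimV := ker_add_range F k T
  have hnev : ¬ Even (ii F r) := Nat.not_even_iff_odd.mpr hodd
  obtain ⟨L₀, hL₀U, hL₀inv, hL₀ts, hL₀dim⟩ :=
    hex s₀ (fun _ => by rw [hdimU, mul_assoc]) (fun he => absurd he hnev)
  have hL₀k : ii F r * s₀ ≤ k := by
    rw [← hL₀dim]
    exact ts_le F k a b hab L₀ hL₀ts
  have horth' : ∀ X Y : Submodule F (MI k → F), X ≤ LinearMap.ker (T - 1) →
      Y ≤ LinearMap.range (T - 1) → ∀ x ∈ X, ∀ z ∈ Y,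
      QuadraticMap.polar ⇑(Cfsg.Agent.H49.QMin k F a b) x z = 0 :=
    fun X Y hX hY x hx z hz => horth x (hX hx) z (hY hz)
  have hinf' : ∀ X Y : Submodule F (MI k → F), X ≤ LinearMap.ker (T - 1) →
      Y ≤ LinearMap.range (T - 1) → X ⊓ Y = ⊥ := by
    intro X Y hX hY
    rw [eq_bot_iff]
    intro z hz
    rw [← hinf]
    exact ⟨hX hz.1, hY hz.2⟩
  refine ⟨s₀, hL₀k, ?_, ?_, ?_⟩
  · show finrank F ↥(LinearMap.ker (Matrix.toLin' (y : Matrix (MI k) (MI k) F) - 1)) +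
      2 * ii F r * s₀ = 2 * k + 2
    rw [hT, mul_assoc, ← hdimU]
    exact hdimV
  · intro j w hj hwk
    obtain ⟨WU, hWU, hWUinv, hWUts, hWUdim⟩ :=
      hex j (fun _ => by
        rw [hdimU, mul_assoc]
        exact Nat.mul_le_mul_left 2 (Nat.mul_le_mul_left _ hj)) (fun he => absurd he hnev)
    have hdimC : 2 * w + 1 ≤ finrank F ↥(LinearMap.ker (T - 1)) := by omega
    obtain ⟨J, hJC, hJts, hJdim⟩ :=
      hW F (MI k → F) (Cfsg.Agent.H49.QMin k F a b) (LinearMap.ker (T - 1)) w hCnd hdimC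
    refine ⟨J ⊔ WU, ⟨?_, ?_⟩, ?_⟩
    · rw [finrank_sup_of_inf J WU (hinf' J WU hJC hWU), hJdim, hWUdim, add_comm]
    · have hts := ts_sup (Cfsg.Agent.H49.QMin k F a b) J WU hJts hWUts (horth' J WU hJC hWU)
      exact fun z hz => hts z hz
    · rw [hT, Submodule.map_le_iff_le_comap]
      intro z hz
      obtain ⟨x, hx, u, hu, rfl⟩ := Submodule.mem_sup.mp hz
      rw [Submodule.mem_comap, map_add]
      have hx' : T x = x := by
        have h1 := hJC hx
        rw [LinearMap.mem_ker, LinearMap.sub_apply, Module.End.one_apply, sub_eq_zero] at h1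
        exact h1
      rw [hx']
      have hu' : T u ∈ WU := (Module.End.mem_invtSubmodule _).mp hWUinv hu
      exact Submodule.add_mem _ (Submodule.mem_sup_left hx) (Submodule.mem_sup_right hu')
  · intro W hWts hWinv
    have hWinv' : W ∈ Module.End.invtSubmodule T := by
      rw [Module.End.mem_invtSubmodule]
      exact Submodule.map_le_iff_le_comap.mp hWinv
    obtain ⟨s, hs, hs2, -⟩ := hstr W hWinv' (fun z hz => hWts z hz)
    refine ⟨s, finrank F ↥(W ⊓ LinearMap.ker (T - 1)), by rw [hs, add_comm], ?_, ?_⟩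
    · rw [hdimU] at hs2
      have h1 : ii F r * s ≤ ii F r * s₀ := by omega
      exact Nat.le_of_mul_le_mul_left h1 hi
    · have hts : TS (Cfsg.Agent.H49.QMin k F a b) ((W ⊓ LinearMap.ker (T - 1)) ⊔ L₀) :=
        ts_sup _ _ _ (fun z hz => hWts z hz.1) hL₀ts (horth' _ _ inf_le_right hL₀U)
      have h1 := ts_le F k a b hab _ hts
      rw [finrank_sup_of_inf _ _ (hinf' _ _ inf_le_right hL₀U), hL₀dim] at h1
      exact h1

example : StMOdd.{u} =
    (∀ (F : Type u) [Field F] [Fintype F] (p : ℕ) [Fact p.Prime] [CharP F p] (k : ℕ) (a b : F)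
    (r : ℕ), Aniso a b → r.Prime → r ≠ 2 → r ≠ p → Odd (ii F r) →
    ∀ y : GL (MI k) F, y ∈ Cfsg.isometryGroup F (Cfsg.quadFormMinus k F a b) → y ^ r = 1 →
    ∃ A : ℕ, ii F r * A ≤ k ∧ fixDim k y + 2 * ii F r * A = 2 * k + 2 ∧
      (∀ j w : ℕ, j ≤ A → w + ii F r * A ≤ k → FixM k a b (ii F r * j + w) y) ∧
      (∀ W : Submodule F (MI k → F),
        Cfsg.Geo.IsTotallySingularQuad (Cfsg.quadFormMinus k F a b) W →
        W.map (Matrix.toLin' (y : Matrix (MI k) (MI k) F)) ≤ W →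
        ∃ j w : ℕ, Module.finrank F ↥W = ii F r * j + w ∧ j ≤ A ∧ w + ii F r * A ≤ k)) :=
  rfl

end Cfsg.Agent.H12.Tm
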