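import Cfsg.Agent.H64.TmDefs

/-!
# S3701 (team project TM, helper64): piece TM-SWAP — the symmetry `(a,b,c,x,y) ↦ (a,c,b,y,x)` of the
configuration.
-/

set_option autoImplicit false

namespace Cfsg.Agent.H12.Tm

open Subgroup Cfsg.Agent.H64.Tm

universe u

/-- (TM-SWAP) -/
theorem swap : StSwap.{u} := by
  intro G _ _ H T a b c x y hC
  have hbc : ∀ j k : ℕ, b ^ j * c ^ k = c ^ k * b ^ j := fun j k =>
    ((show Commute b c from hC.bc).pow_pow j k).eq
  exact
    { cardT := hC.cardT
      cardH := hC.cardH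
      TH := hC.TH
      aT := hC.aT
      bT := hC.cT
      cT := hC.bT
      xH := hC.yH
      yH := hC.xH
      a3 := hC.a3
      b3 := hC.c3
      c3 := hC.b3
      ab := hC.ac
      ac := hC.ab
      bc := hC.bc.symm
      x2 := hC.y2
      y2 := hC.x2
      xy := hC.xy.symm
      xa := hC.ya
      xb := hC.yc
      xc := hC.yb
      ya := hC.xa
      yb := hC.xc
      yc := hC.xb
      Telts := by
        intro t ht
        obtain ⟨i, j, k, rfl⟩ := hC.Telts t ht
        exact ⟨i, k, j, by rw [mul_assoc, hbc, ← mul_assoc]⟩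
      indep := by
        intro i j k h
        have h' : a ^ i * b ^ k * c ^ j = 1 := by rw [mul_assoc, hbc, ← mul_assoc]; exact h
        obtain ⟨h1, h2, h3⟩ := hC.indep i k j h'
        exact ⟨h1, h3, h2⟩
      Helts := by
        intro h hh
        obtain ⟨t, ht, h1 | h1 | h1 | h1⟩ := hC.Helts h hh
        · exact ⟨t, ht, Or.inl h1⟩
        · exact ⟨t, ht, Or.inr (Or.inr (Or.inl h1))⟩
        · exact ⟨t, ht, Or.inr (Or.inl h1)⟩
        · exact ⟨t, ht, Or.inr (Or.inr (Or.inr (by rw [← hC.xy]; exact h1)))⟩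
      xT := hC.yT
      yT := hC.xT
      xyT := by rw [← hC.xy]; exact hC.xyT
      norm := hC.norm
      loc := hC.loc }

example : StSwap.{u} =
    (∀ (G : Type u) [Group G] [Finite G] (H T : Subgroup G) (a b c x y : G),
    Cfg G H T a b c x y → Cfg G H T a c b y x) :=
  rfl

end Cfsg.Agent.H12.Tm
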