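import Cfsg.Agent.H64.TmDefs

/-!
# S3701 (team project TM, helper64): piece TM-VALS — `c ∈ S₁^G`, and no element with square `1` lies in
`S₁^G`.
-/

set_option autoImplicit false

namespace Cfsg.Agent.H12.Tm

open Subgroup Cfsg.Agent.H64.Tm

universe u

/-- (TM-VALS) -/
theorem vals (hS : StS1.{u}) : StVals.{u} := by
  intro G _ _ H T a b c x y hC
  obtain ⟨-, -, -, hsq, -⟩ := hS G H T a b c x y hC
  refine ⟨⟨1, 1, one_mem _, Or.inl (by group)⟩, ?_⟩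
  rintro z hz ⟨r, hr⟩
  apply (hsq _ hr).2
  calc r * z * r⁻¹ * (r * z * r⁻¹) = r * (z * z) * r⁻¹ := by group
    _ = 1 := by rw [hz]; group

example : StVals.{u} =
    (∀ (G : Type u) [Group G] [Finite G] (H T : Subgroup G) (a b c x y : G),
    Cfg G H T a b c x y →
    c ∈ S1G a b c x ∧ ∀ z : G, z * z = 1 → z ∉ S1G a b c x) :=
  rfl

example : StS1.{u} =
    (∀ (G : Type u) [Group G] [Finite G] (H T : Subgroup G) (a b c x y : G),
    Cfg G H T a b c x y →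
    (∀ s ∈ S1 a b c x, s ∈ H) ∧
    (∀ n ∈ H, ∀ s ∈ S1 a b c x, n * s * n⁻¹ ∈ S1 a b c x) ∧
    (∀ s ∈ S1 a b c x, s⁻¹ ∈ S1 a b c x) ∧
    (∀ s ∈ S1 a b c x, s * s ∈ T ∧ s * s ≠ 1) ∧
    Nat.card (S1 a b c x) = 36) :=
  rfl

end Cfsg.Agent.H12.Tm
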