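import Cfsg.Agent.H64.TmDefs

/-!
# S3701 (team project TM, helper64): piece TM-YPAIRS — a product of two conjugates of `y` (resp. of
`x * y`) lies in `S₁^G`.
-/

set_option autoImplicit false

namespace Cfsg.Agent.H12.Tm

open Subgroup Cfsg.Agent.H64.Tm

universe u

/-- If the involution `z` inverts the element `c` of order 3 then `z * (c * z * c⁻¹) = c`. -/
theorem inv_pair {G : Type u} [Group G] (c z : G) (hc : c ^ 3 = 1) (hz : z * z = 1)
    (hzc : z * c = c⁻¹ * z) : z * (c * z * c⁻¹) = c := by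
  have h1 : z * (c * z * c⁻¹) = (z * c) * z * c⁻¹ := by group
  rw [h1, hzc, mul_assoc c⁻¹ z z, hz, mul_one]
  have h3 : c * c * c = 1 := by rw [← hc, pow_succ, pow_two]
  calc c⁻¹ * c⁻¹ = c⁻¹ * c⁻¹ * (c * c * c) := by rw [h3, mul_one]
    _ = c := by group

/-- `c ∈ S₁^G`. -/
theorem c_mem_S1G {G : Type u} [Group G] (a b c x : G) : c ∈ S1G a b c x := by
  refine ⟨1, 1, one_mem _, Or.inl ?_⟩
  group

/-- (TM-YPAIRS) -/
theorem yPairs : StYPairs.{u} := by
  intro G _ _ H T a b c x y hC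
  refine ⟨⟨y, c * y * c⁻¹, IsConj.refl y, isConj_iff.mpr ⟨c, rfl⟩, ?_⟩,
    ⟨x * y, c * (x * y) * c⁻¹, IsConj.refl _, isConj_iff.mpr ⟨c, rfl⟩, ?_⟩⟩
  · rw [inv_pair c y hC.c3 hC.y2 hC.yc]
    exact c_mem_S1G a b c x
  · have hxc' : x * c⁻¹ = c⁻¹ * x := by
      calc x * c⁻¹ = c⁻¹ * (c * x) * c⁻¹ := by group
        _ = c⁻¹ * (x * c) * c⁻¹ := by rw [hC.xc]
        _ = c⁻¹ * x := by group
    have h1 : (x * y) * c = c⁻¹ * (x * y) := by
      calc (x * y) * c = x * (y * c) := by group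
        _ = x * (c⁻¹ * y) := by rw [hC.yc]
        _ = (x * c⁻¹) * y := by group
        _ = c⁻¹ * (x * y) := by rw [hxc']; group
    have h2 : (x * y) * (x * y) = 1 := by
      calc (x * y) * (x * y) = x * (y * x) * y := by group
        _ = x * (x * y) * y := by rw [← hC.xy]
        _ = (x * x) * (y * y) := by group
        _ = 1 := by rw [hC.x2, hC.y2, one_mul]
    rw [inv_pair c (x * y) hC.c3 h2 h1]
    exact c_mem_S1G a b c x

example : StYPairs.{u} =
    (∀ (G : Type u) [Group G] [Finite G] (H T : Subgroup G) (a b c x y : G),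
    Cfg G H T a b c x y →
    (∃ u v : G, IsConj y u ∧ IsConj y v ∧ u * v ∈ S1G a b c x) ∧
    (∃ u v : G, IsConj (x * y) u ∧ IsConj (x * y) v ∧ u * v ∈ S1G a b c x)) :=
  rfl

end Cfsg.Agent.H12.Tm
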