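import Mathlib
import Cfsg.Agent.H64.TtDefs

/-!
# S3385 (team project, helper64): basic lemmas on Tutte data (shift by powers of `g`, a central
generator is trivial), and the piece TT-COMM.
-/

set_option autoImplicit false

namespace Cfsg.Agent.H12.Tt

open Cfsg.Agent.H64.Tt

universe u

section
variable {G : Type u} [Group G] {x : ℤ → G} {g : G} {k : ℕ}

/-- `x (j + i) = g ^ i * x j * g ^ (-i)` -/
theorem shift_zpow (T : TData x g k) (i j : ℤ) : g ^ i * x j * (g ^ i)⁻¹ = x (j + i) := by
  induction i using Int.induction_on with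
  | zero => simp
  | succ n ih =>
    have h := T.shift (j + n)
    rw [← ih] at h
    rw [← add_assoc, ← h]
    group
  | pred n ih =>
    have h := T.shift (j + (-(n : ℤ) - 1))
    have e : j + (-(n : ℤ) - 1) + 1 = j + -(n : ℤ) := by ring
    rw [e, ← ih] at h
    have h2 : x (j + (-(n : ℤ) - 1)) =
        g⁻¹ * (g ^ (-(n : ℤ)) * x j * (g ^ (-(n : ℤ)))⁻¹) * g := by
      rw [← h]; group
    rw [h2]
    group

/-- commutation is invariant under the shift -/
theorem conj_comm (T : TData x g k) (i a b : ℤ) (h : x a * x b = x b * x a) :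
    x (a + i) * x (b + i) = x (b + i) * x (a + i) := by
  rw [← shift_zpow T i a, ← shift_zpow T i b]
  calc g ^ i * x a * (g ^ i)⁻¹ * (g ^ i * x b * (g ^ i)⁻¹)
      = g ^ i * (x a * x b) * (g ^ i)⁻¹ := by group
    _ = g ^ i * (x b * x a) * (g ^ i)⁻¹ := by rw [h]
    _ = g ^ i * x b * (g ^ i)⁻¹ * (g ^ i * x a * (g ^ i)⁻¹) := by group

/-- `x 0 ≠ 1` -/
theorem x_zero_ne_one (T : TData x g k) (hk : 1 ≤ k) : x 0 ≠ 1 := by
  intro h0
  have h1 := T.card 1 le_rfl hk
  have h2 : X x 0 (((1 : ℕ) : ℤ) - 1) = ⊥ := by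
    rw [eq_bot_iff, X_le_iff]
    intro i hi0 hi1
    have hi : i = 0 := by
      have : (((1 : ℕ) : ℤ) - 1) = 0 := by norm_num
      omega
    rw [hi, h0]
    exact Subgroup.one_mem _
  rw [h2, Subgroup.card_bot] at h1
  norm_num at h1

/-- `x i ≠ 1` -/
theorem x_ne_one (T : TData x g k) (hk : 1 ≤ k) (i : ℤ) : x i ≠ 1 := by
  intro h
  have h1 := shift_zpow T i 0
  rw [zero_add, h, conj_eq_one_iff] at h1
  exact x_zero_ne_one T hk h1

/-- a generator `x c`, `0 ≤ c ≤ k`, commuting with `x 0, …, x (k+1)` would be trivial -/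
theorem not_central (T : TData x g k) (hk : 1 ≤ k) (c : ℤ) (hc0 : 0 ≤ c) (hck : c ≤ k)
    (hcomm : ∀ j : ℤ, 0 ≤ j → j ≤ (k : ℤ) + 1 → x c * x j = x j * x c) : False := by
  have hcen : ∀ h : G, h * x c = x c * h := by
    intro h
    have h1 : X x 0 k ≤ Subgroup.centralizer ({x c} : Set G) := by
      rw [X_le_iff]
      intro j hj0 hjk
      rw [Subgroup.mem_centralizer_iff]
      intro y hy
      rw [Set.mem_singleton_iff] at hy
      rw [hy]
      exact hcomm j hj0 (by omega)
    have h2 : X x 1 ((k : ℤ) + 1) ≤ Subgroup.centralizer ({x c} : Set G) := by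
      rw [X_le_iff]
      intro j hj0 hjk
      rw [Subgroup.mem_centralizer_iff]
      intro y hy
      rw [Set.mem_singleton_iff] at hy
      rw [hy]
      exact hcomm j (by omega) hjk
    have h3 : h ∈ Subgroup.centralizer ({x c} : Set G) := by
      have h4 : (⊤ : Subgroup G) ≤ Subgroup.centralizer ({x c} : Set G) := by
        rw [← T.gen]
        exact sup_le h1 h2
      exact h4 (Subgroup.mem_top h)
    rw [Subgroup.mem_centralizer_iff] at h3
    exact (h3 (x c) rfl).symm
  have hle : Subgroup.zpowers (x c) ≤ Subgroup.center G := by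
    rw [Subgroup.zpowers_le, Subgroup.mem_center_iff]
    exact hcen
  have hnorm : (Subgroup.zpowers (x c)).Normal := by
    refine ⟨fun n hn h => ?_⟩
    have h1 := Subgroup.mem_center_iff.mp (hle hn) h
    have h2 : h * n * h⁻¹ = n := by rw [h1]; group
    rw [h2]
    exact hn
  have hsub : Subgroup.zpowers (x c) ≤ X x 0 k := by
    rw [Subgroup.zpowers_le]
    exact mem_X x hc0 hck
  have hbot := T.core _ hnorm hsub
  have hx : x c ∈ (⊥ : Subgroup G) := by
    rw [← hbot]
    exact Subgroup.mem_zpowers _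
  exact x_ne_one T hk c (Subgroup.mem_bot.mp hx)

end

/-- (TT-COMM) -/
theorem comm : CommStmt.{u} := by
  intro G _ x g k l T hl
  obtain ⟨hl1, hl2, hl3⟩ := hl
  have key : ∀ i j : ℤ, i ≤ j → j - i < l → x i * x j = x j * x i := by
    intro i j hij hlt
    by_cases hm : j = i
    · rw [hm]
    · have h1 := hl2 (j - i).toNat (by omega) (by omega)
      have h2 := conj_comm T i 0 ((j - i).toNat : ℤ) h1
      have e1 : (0 : ℤ) + i = i := by ring
      have e2 : ((j - i).toNat : ℤ) + i = j := by omega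
      rw [e1, e2] at h2
      exact h2
  refine ⟨?_, ?_⟩
  · intro i j hij
    rcases le_total i j with h | h
    · exact key i j h (by rw [abs_lt] at hij; omega)
    · exact (key j i h (by rw [abs_lt] at hij; omega)).symm
  · intro i h
    have h2 := conj_comm T (-i) i (i + l) h
    have e1 : i + -i = 0 := by ring
    have e2 : i + (l : ℤ) + -i = l := by ring
    rw [e1, e2] at h2
    exact hl3 h2

example : CommStmt.{u} =
    (∀ {G : Type u} [Group G] (x : ℤ → G) (g : G) (k l : ℕ), TData x g k → IsLam x l →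
  (∀ i j : ℤ, |i - j| < l → x i * x j = x j * x i) ∧ (∀ i : ℤ, x i * x (i + l) ≠ x (i + l) * x i)) :=
  rfl

end Cfsg.Agent.H12.Tt
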