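import Mathlib
import Cfsg.Agent.H64.TtDefs
import Cfsg.Agent.H12.TtBase

/-!
# S3385 (team project, helper64): pieces TT-C2 (`λ` exists) and TT-C3 (`2λ ≤ k + 2`).
-/

set_option autoImplicit false

namespace Cfsg.Agent.H12.Tt

open Cfsg.Agent.H64.Tt

universe u

/-- (TT-C2) -/
theorem c2 : C2Stmt.{u} := by
  intro G _ _ x g k T hk
  by_contra hno
  push Not at hno
  have hall : ∀ m : ℕ, 1 ≤ m → m ≤ k → x 0 * x m = x m * x 0 := by
    intro m
    induction m using Nat.strong_induction_on with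
    | _ m ih =>
      intro hm1 hmk
      by_contra hne
      exact hno m hmk ⟨hm1, fun m' hm'1 hm'lt => ih m' hm'lt hm'1 (by omega), hne⟩
  apply not_central T hk 1 (by norm_num) (by exact_mod_cast hk)
  intro j hj0 hjk
  by_cases hj : j = 0
  · rw [hj]
    have h := hall 1 le_rfl hk
    rw [Nat.cast_one] at h
    exact h.symm
  · by_cases hj1 : j = 1
    · rw [hj1]
    · have h1 := hall (j - 1).toNat (by omega) (by omega)
      have h2 := conj_comm T 1 0 ((j - 1).toNat : ℤ) h1
      have e1 : (0 : ℤ) + 1 = 1 := by norm_num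
      have e2 : ((j - 1).toNat : ℤ) + 1 = j := by omega
      rw [e1, e2] at h2
      exact h2

/-- (TT-C3), without the optional hypothesis -/
theorem c3' : C3Stmt.{u} := by
  intro G _ _ x g k l T hl hlk
  by_contra hlt
  push Not at hlt
  have hl1 : 1 ≤ l := hl.1
  have hk : 1 ≤ k := by omega
  obtain ⟨hc, -⟩ := comm x g k l T hl
  apply not_central T hk ((l : ℤ) - 1) (by omega) (by omega)
  intro j hj0 hjk
  apply hc
  rw [abs_lt]
  constructor <;> omega

/-- (TT-C3), posted signature -/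
theorem c3 (_hcomm : CommStmt.{u}) : C3Stmt.{u} := c3'

example : C2Stmt.{u} =
    (∀ {G : Type u} [Group G] [Finite G] (x : ℤ → G) (g : G) (k : ℕ), TData x g k → 1 ≤ k →
  ∃ l : ℕ, l ≤ k ∧ IsLam x l) :=
  rfl

example : C3Stmt.{u} =
    (∀ {G : Type u} [Group G] [Finite G] (x : ℤ → G) (g : G) (k l : ℕ), TData x g k →
  IsLam x l → l ≤ k → 2 * l ≤ k + 2) :=
  rfl

end Cfsg.Agent.H12.Tt
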