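import Mathlib
import Cfsg.Agent.H58.UqDefs
import Cfsg.Agent.H51.JcNORM
import Cfsg.Agent.H51.Local

/-!
# UQ-KEYC (piece of S2950; helper58's project)

A subgroup `Y` normalizing all `L`-conjugates of `W_K` (`K` subnormal in the maximal 2-local `L`)
lies in `L`: `U := ⟨W_K^x : x ∈ L⟩` is a nontrivial 2-subgroup of `O₂(L)` normalized by `L` and
`Y`, so `L = N_G(U) ∋ Y`.
-/

set_option autoImplicit false
open Cfsg

namespace Cfsg.Agent.H12.Uq

universe u

/-- An element whose conjugation and inverse conjugation map `U` into `U` normalizes `U`. -/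
theorem mem_normalizer_of_map_conj_le {G : Type u} [Group G] {U : Subgroup G} {g : G}
    (h1 : U.map (MulAut.conj g).toMonoidHom ≤ U)
    (h2 : U.map (MulAut.conj g⁻¹).toMonoidHom ≤ U) :
    g ∈ Subgroup.normalizer (U : Set G) := by
  rw [Subgroup.mem_normalizer_iff]
  intro h
  constructor
  · intro hh
    exact h1 ⟨h, hh, rfl⟩
  · intro hh
    have h3 : (MulAut.conj g⁻¹).toMonoidHom (g * h * g⁻¹) ∈ U := h2 ⟨g * h * g⁻¹, hh, rfl⟩
    have e : (MulAut.conj g⁻¹).toMonoidHom (g * h * g⁻¹) = h := by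
      simp only [MulEquiv.coe_toMonoidHom, MulAut.conj_apply]
      group
    rwa [e] at h3

/-- An element of the normalizer of `W` maps `W` into itself. -/
theorem map_conj_le_of_mem_normalizer {G : Type u} [Group G] {W : Subgroup G} {y : G}
    (hy : y ∈ Subgroup.normalizer (W : Set G)) : W.map (MulAut.conj y).toMonoidHom ≤ W := by
  rintro _ ⟨w, hw, rfl⟩
  exact (Subgroup.mem_normalizer_iff.mp hy w).mp hw

/-- UQ-KEYC. -/
theorem keyC (hO : Cfsg.Agent.H58.Uq.StO2SN.{u}) : Cfsg.Agent.H58.Uq.StKeyC.{u} := by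
  intro G _ _ L K Y hLmax hKL hsn hW2 hWne hY
  obtain ⟨hL2, hLm⟩ := hLmax
  have hWP : wOf K ≤ pCoreOf 2 L := (Cfsg.Agent.H51.Jc.wOf_le K).trans (hO K L hKL hsn)
  have hPn : L ≤ Subgroup.normalizer (pCoreOf 2 L : Set G) :=
    Cfsg.Agent.H51.le_normalizer_pCoreOf 2 L
  have hP2 : IsPGroup 2 ↥(pCoreOf 2 L) := Cfsg.Agent.H51.pCoreOf_isPGroup 2 L
  let F : ↥L → Subgroup G := fun x => (wOf K).map (MulAut.conj (x : G)).toMonoidHom
  have hUP : (⨆ x : ↥L, F x) ≤ pCoreOf 2 L := by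
    apply iSup_le
    intro x
    exact (Subgroup.map_mono hWP).trans (map_conj_le_of_mem_normalizer (hPn x.2))
  have hU2 : IsPGroup 2 ↥(⨆ x : ↥L, F x) := hP2.to_le hUP
  have hWU : wOf K ≤ ⨆ x : ↥L, F x := by
    have h1 : F 1 ≤ ⨆ x : ↥L, F x := le_iSup F 1
    have e : F 1 = wOf K := by
      show (wOf K).map (MulAut.conj ((1 : ↥L) : G)).toMonoidHom = wOf K
      ext w
      simp
    rwa [e] at h1
  have hUne : (⨆ x : ↥L, F x) ≠ ⊥ := by
    intro h
    apply hWne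
    rw [h] at hWU
    exact le_bot_iff.mp hWU
  have hLU : ∀ l ∈ L, (⨆ x : ↥L, F x).map (MulAut.conj l).toMonoidHom ≤ ⨆ x : ↥L, F x := by
    intro l hl
    rw [Subgroup.map_iSup]
    apply iSup_le
    intro x
    have e : (F x).map (MulAut.conj l).toMonoidHom = F ⟨l * x, mul_mem hl x.2⟩ := by
      show ((wOf K).map (MulAut.conj (x : G)).toMonoidHom).map (MulAut.conj l).toMonoidHom =
        (wOf K).map (MulAut.conj (l * (x : G))).toMonoidHom
      rw [Subgroup.map_map]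
      congr 1
      ext w
      simp [mul_assoc]
    rw [e]
    exact le_iSup F _
  have hLN : L ≤ Subgroup.normalizer ((⨆ x : ↥L, F x : Subgroup G) : Set G) := fun l hl =>
    mem_normalizer_of_map_conj_le (hLU l hl) (hLU l⁻¹ (inv_mem hl))
  have hNL : Subgroup.normalizer ((⨆ x : ↥L, F x : Subgroup G) : Set G) = L :=
    hLm _ ⟨_, hU2, hUne, rfl⟩ hLN
  have hYU : ∀ y ∈ Y, (⨆ x : ↥L, F x).map (MulAut.conj y).toMonoidHom ≤ ⨆ x : ↥L, F x := by
    intro y hy
    rw [Subgroup.map_iSup]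
    apply iSup_le
    intro x
    exact (map_conj_le_of_mem_normalizer (hY x x.2 hy)).trans (le_iSup F x)
  intro y hy
  rw [← hNL]
  exact mem_normalizer_of_map_conj_le (hYU y hy) (hYU y⁻¹ (inv_mem hy))

end Cfsg.Agent.H12.Uq

universe u in
example (hO : Cfsg.Agent.H58.Uq.StO2SN.{u}) : Cfsg.Agent.H58.Uq.StKeyC.{u} :=
  Cfsg.Agent.H12.Uq.keyC.{u} hO
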